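import Cfsg.Agent.FF.Defs
import Mathlib.FieldTheory.Finiteness
import Mathlib.GroupTheory.Sylow
import Mathlib.LinearAlgebra.Quotient.Card
import Mathlib.LinearAlgebra.FiniteDimensional.Basic

/-!
Basic facts on minimal offenders: conjugation, cardinalities, quadratic action, local bounds.
-/

set_option autoImplicit false
set_option linter.unusedSectionVars false

namespace Cfsg.Lib.FF

open Submodule

universe u

variable {H : Type u} [Group H] [Finite H] {V : Type u} [AddCommGroup V] [Module (ZMod 2) V] [Finite V]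
  (ρ : Representation (ZMod 2) H V)

theorem rho_inv_cancel (g : H) (v : V) : ρ g⁻¹ (ρ g v) = v := by
  rw [← rho_mul, inv_mul_cancel, rho_one]

theorem rho_cancel_inv (g : H) (v : V) : ρ g (ρ g⁻¹ v) = v := by
  rw [← rho_mul, mul_inv_cancel, rho_one]

theorem rho_injective (g : H) : Function.Injective (ρ g) := fun x y h => by
  rw [← rho_inv_cancel ρ g x, h, rho_inv_cancel]

theorem faithful_iff (h : Function.Injective ρ) {g : H} (hg : ∀ v, ρ g v = v) : g = 1 :=
  h (LinearMap.ext fun v => (hg v).trans (rho_one ρ v).symm)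

/-! ### conjugation -/

/-- conjugate of a subgroup -/
def cnj (g : H) (S : Subgroup H) : Subgroup H := S.map (MulAut.conj g).toMonoidHom

theorem mem_cnj {g : H} {S : Subgroup H} {x : H} : x ∈ cnj g S ↔ g⁻¹ * x * g ∈ S := by
  constructor
  · rintro ⟨y, hy, rfl⟩; simpa [mul_assoc] using hy
  · intro h; exact ⟨_, h, by simp [mul_assoc]⟩

theorem cnj_one (S : Subgroup H) : cnj 1 S = S := by ext; simp [mem_cnj]

theorem cnj_mul (g h : H) (S : Subgroup H) : cnj (g * h) S = cnj g (cnj h S) := by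
  ext x; simp [mem_cnj, mul_assoc]

theorem cnj_inv_cnj (g : H) (S : Subgroup H) : cnj g⁻¹ (cnj g S) = S := by
  rw [← cnj_mul, inv_mul_cancel, cnj_one]

theorem cnj_cnj_inv (g : H) (S : Subgroup H) : cnj g (cnj g⁻¹ S) = S := by
  rw [← cnj_mul, mul_inv_cancel, cnj_one]

theorem cnj_mono (g : H) {S T : Subgroup H} (h : S ≤ T) : cnj g S ≤ cnj g T := Subgroup.map_mono h

theorem cnj_le_iff (g : H) {S T : Subgroup H} : cnj g S ≤ T ↔ S ≤ cnj g⁻¹ T :=
  ⟨fun h => cnj_inv_cnj g S ▸ cnj_mono g⁻¹ h, fun h => cnj_cnj_inv g T ▸ cnj_mono g h⟩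

theorem card_cnj (g : H) (S : Subgroup H) : Nat.card (cnj g S) = Nat.card S :=
  Subgroup.card_map_of_injective (MulAut.conj g).injective

theorem mem_normalizer_iff_cnj {g : H} {S : Subgroup H} :
    g ∈ Subgroup.normalizer (S : Set H) ↔ cnj g S = S := by
  constructor
  · intro h; ext x
    rw [mem_cnj, Subgroup.mem_normalizer_iff.mp h]
    simp [mul_assoc]
  · intro h
    rw [Subgroup.mem_normalizer_iff]
    intro x
    conv_rhs => rw [← h, mem_cnj]
    simp [mul_assoc]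

theorem cnj_eq_self_of_mem {g : H} {S : Subgroup H} (h : g ∈ S) : cnj g S = S :=
  mem_normalizer_iff_cnj.mp (Subgroup.le_normalizer h)

/-- translate of a subspace -/
def tr (g : H) (X : Submodule (ZMod 2) V) : Submodule (ZMod 2) V := X.map (ρ g)

theorem mem_tr {g : H} {X : Submodule (ZMod 2) V} {v : V} : v ∈ tr ρ g X ↔ ρ g⁻¹ v ∈ X := by
  constructor
  · rintro ⟨w, hw, rfl⟩; rwa [rho_inv_cancel]
  · intro h; exact ⟨_, h, rho_cancel_inv ρ g v⟩

theorem tr_one (X : Submodule (ZMod 2) V) : tr ρ 1 X = X := by ext; simp [mem_tr]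

theorem tr_mul (g h : H) (X : Submodule (ZMod 2) V) : tr ρ (g * h) X = tr ρ g (tr ρ h X) := by
  ext v; rw [mem_tr, mem_tr, mem_tr, mul_inv_rev, rho_mul]

theorem card_tr (g : H) (X : Submodule (ZMod 2) V) : Nat.card (tr ρ g X) = Nat.card X :=
  (Nat.card_congr (Submodule.equivMapOfInjective _ (rho_injective ρ g) X).toEquiv).symm

theorem tr_eq_self_iff {g : H} {X : Submodule (ZMod 2) V} : tr ρ g X = X ↔ g ∈ stab ρ X := by
  constructor
  · intro h w hw
    have h' : ρ g w ∈ tr ρ g X := ⟨w, hw, rfl⟩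
    exact h ▸ h'
  · intro h; ext v
    rw [mem_tr]
    exact ⟨fun hv => rho_cancel_inv ρ g v ▸ h _ hv, fun hv => inv_mem h v hv⟩

theorem stab_tr (g : H) (X : Submodule (ZMod 2) V) : stab ρ (tr ρ g X) = cnj g (stab ρ X) := by
  ext x
  rw [mem_cnj, ← tr_eq_self_iff, ← tr_eq_self_iff, tr_mul, tr_mul]
  refine ⟨fun h => ?_, fun h => ?_⟩
  · rw [h, ← tr_mul, inv_mul_cancel, tr_one]
  · conv_rhs => rw [← h]
    rw [← tr_mul ρ g g⁻¹, mul_inv_cancel, tr_one]

theorem cent_tr (g : H) (X : Submodule (ZMod 2) V) : cent ρ (tr ρ g X) = cnj g (cent ρ X) := by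
  ext x
  rw [mem_cnj]
  constructor
  · intro h w hw
    rw [rho_mul, rho_mul, h _ ⟨w, hw, rfl⟩, rho_inv_cancel]
  · rintro h _ ⟨w, hw, rfl⟩
    have := congrArg (ρ g) (h w hw)
    rwa [rho_mul, rho_mul, rho_cancel_inv] at this

theorem fixS_cnj (g : H) (S : Subgroup H) : fixS ρ (cnj g S) = tr ρ g (fixS ρ S) := by
  ext v
  rw [mem_tr]
  constructor
  · intro h x hx
    have := h (g * x * g⁻¹) (by rw [mem_cnj]; simpa [mul_assoc] using hx)
    rw [rho_mul, rho_mul] at this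
    have h2 := congrArg (ρ g⁻¹) this
    rwa [rho_inv_cancel] at h2
  · rintro h _ ⟨x, hx, rfl⟩
    have := congrArg (ρ g) (h x hx)
    rw [rho_cancel_inv] at this
    simpa [rho_mul] using this

/-! ### offenders -/

theorem off_cnj {A : Subgroup H} (g : H) (h : Off ρ A) : Off ρ (cnj g A) := by
  obtain ⟨h1, h2, h3, h4⟩ := h
  refine ⟨h1.map _, ?_, ?_, ?_⟩
  · rintro _ ⟨a, ha, rfl⟩ _ ⟨b, hb, rfl⟩
    rw [← map_mul, ← map_mul, h2 a ha b hb]
  · rw [cnj, Ne, Subgroup.map_eq_bot_iff_of_injective _ (MulAut.conj g).injective]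
    exact h3
  · rwa [card_cnj, fixS_cnj, card_tr]

theorem minOff_cnj {A : Subgroup H} (g : H) (h : MinOff ρ A) : MinOff ρ (cnj g A) := by
  refine ⟨off_cnj ρ g h.1, fun B hB hoff => h.2 (cnj g⁻¹ B) ?_ (off_cnj ρ g⁻¹ hoff)⟩
  refine lt_of_le_of_ne (cnj_inv_cnj g A ▸ cnj_mono _ hB.le) fun e => hB.ne ?_
  rw [← cnj_cnj_inv g B, e]

theorem exists_minOff_le {A : Subgroup H} (h : Off ρ A) : ∃ B, B ≤ A ∧ MinOff ρ B := by
  obtain ⟨B, hBA, ⟨hB, -⟩, hmin⟩ :=
    Finite.exists_le_minimal (p := fun B => Off ρ B ∧ B ≤ A) ⟨h, le_rfl⟩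
  exact ⟨B, hBA, hB, fun C hC hoff => hC.not_ge (hmin ⟨hoff, hC.le.trans hBA⟩ hC.le)⟩

theorem offJ_le (R : Subgroup H) : offJ ρ R ≤ R := sSup_le fun _ h => h.2

theorem offJ_mono {R S : Subgroup H} (h : R ≤ S) : offJ ρ R ≤ offJ ρ S :=
  sSup_le_sSup fun _ hA => ⟨hA.1, hA.2.trans h⟩

theorem le_offJ {A R : Subgroup H} (hA : MinOff ρ A) (h : A ≤ R) : A ≤ offJ ρ R := le_sSup ⟨hA, h⟩

theorem offJ_le_iff {R K : Subgroup H} : offJ ρ R ≤ K ↔ ∀ A, MinOff ρ A → A ≤ R → A ≤ K :=
  ⟨fun h _ hA hR => (le_offJ ρ hA hR).trans h, fun h => sSup_le fun A hA => h A hA.1 hA.2⟩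

theorem offJ_cnj (g : H) (R : Subgroup H) : offJ ρ (cnj g R) = cnj g (offJ ρ R) := by
  refine le_antisymm ((offJ_le_iff ρ).mpr fun A hA hle => ?_) ?_
  · rw [← cnj_cnj_inv g A]
    exact cnj_mono g (le_offJ ρ (minOff_cnj ρ g⁻¹ hA) (by rwa [cnj_le_iff, inv_inv]))
  · rw [cnj_le_iff, offJ_le_iff]
    intro A hA hle
    rw [← cnj_le_iff]
    exact le_offJ ρ (minOff_cnj ρ g hA) (cnj_mono g hle)

theorem normalizer_le_normalizer_offJ (R : Subgroup H) :
    Subgroup.normalizer (R : Set H) ≤ Subgroup.normalizer (offJ ρ R : Set H) := fun g hg => by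
  rw [mem_normalizer_iff_cnj] at hg ⊢
  rw [← offJ_cnj, hg]

/-! ### cardinalities -/

theorem card_sup_mul_card_inf (X Y : Submodule (ZMod 2) V) :
    Nat.card (X ⊔ Y : Submodule (ZMod 2) V) * Nat.card (X ⊓ Y : Submodule (ZMod 2) V) =
      Nat.card X * Nat.card Y := by
  rw [Module.natCard_eq_pow_finrank (K := ZMod 2) (V := (X ⊔ Y : Submodule (ZMod 2) V)),
    Module.natCard_eq_pow_finrank (K := ZMod 2) (V := (X ⊓ Y : Submodule (ZMod 2) V)),
    Module.natCard_eq_pow_finrank (K := ZMod 2) (V := X), Module.natCard_eq_pow_finrank (K := ZMod 2) (V := Y),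
    ← pow_add, ← pow_add, Submodule.finrank_sup_add_finrank_inf_eq]

theorem card_le_card_of_le {X Y : Submodule (ZMod 2) V} (h : X ≤ Y) : Nat.card X ≤ Nat.card Y :=
  Nat.card_le_card_of_injective _ (Submodule.inclusion_injective h)

theorem card_top_submodule : Nat.card (⊤ : Submodule (ZMod 2) V) = Nat.card V :=
  Nat.card_congr (Equiv.Set.univ V)

theorem eq_of_le_of_card_le {X Y : Submodule (ZMod 2) V} (h : X ≤ Y) (hc : Nat.card Y ≤ Nat.card X) : X = Y := by
  refine le_antisymm h fun y hy => ?_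
  obtain ⟨x, hx⟩ := ((Nat.bijective_iff_injective_and_card (Submodule.inclusion h)).mpr
    ⟨Submodule.inclusion_injective h, le_antisymm (card_le_card_of_le h) hc⟩).2 ⟨y, hy⟩
  have : (x : V) = y := congrArg Subtype.val hx
  exact this ▸ x.2

theorem eq_top_of_card_le {X : Submodule (ZMod 2) V} (hc : Nat.card V ≤ Nat.card X) : X = ⊤ :=
  eq_of_le_of_card_le le_top (card_top_submodule.trans_le hc)

theorem card_lt_of_lt {X Y : Submodule (ZMod 2) V} (h : X < Y) : Nat.card X < Nat.card Y :=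
  lt_of_not_ge fun hc => h.ne (eq_of_le_of_card_le h.le hc)

theorem two_mul_card_le {X Y : Submodule (ZMod 2) V} (h : X < Y) : 2 * Nat.card X ≤ Nat.card Y := by
  have := card_lt_of_lt h
  rw [Module.natCard_eq_pow_finrank (K := ZMod 2) (V := X),
    Module.natCard_eq_pow_finrank (K := ZMod 2) (V := Y), Nat.card_zmod] at this ⊢
  rw [← pow_succ']
  exact Nat.pow_le_pow_right two_pos (Nat.succ_le_of_lt ((Nat.pow_lt_pow_iff_right one_lt_two).mp this))

/-- a nonzero invariant subspace of a `2`-group has a nonzero fixed vector -/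
theorem exists_fixed {S : Subgroup H} (hS : IsPGroup 2 S) {Y : Submodule (ZMod 2) V} (hY : S ≤ stab ρ Y)
    (hY0 : Y ≠ ⊥) : ∃ v ∈ Y, v ≠ 0 ∧ v ∈ fixS ρ S := by
  haveI : Fact (Nat.Prime 2) := ⟨Nat.prime_two⟩
  letI : MulAction S Y :=
    { smul := fun g y => ⟨ρ (g : H) y, hY g.2 y y.2⟩
      one_smul := fun y => Subtype.ext (rho_one ρ _)
      mul_smul := fun g h y => Subtype.ext (rho_mul ρ _ _ _) }
  have heven : 2 ∣ Nat.card Y := by
    rw [Module.natCard_eq_pow_finrank (K := ZMod 2), Nat.card_zmod]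
    refine dvd_pow_self 2 fun h => hY0 ?_
    exact Submodule.finrank_eq_zero.mp h
  obtain ⟨b, hb, hne⟩ := hS.exists_fixed_point_of_prime_dvd_card_of_fixed_point Y heven
    (a := 0) (fun g => Subtype.ext (map_zero (ρ (g : H))))
  exact ⟨b, b.2, fun h => hne (Subtype.ext h.symm), fun g hg => congrArg Subtype.val (hb ⟨g, hg⟩)⟩

theorem le_fixS_sup {S : Subgroup H} {X Y : Submodule (ZMod 2) V} (hX : S ≤ cent ρ X) (hY : S ≤ cent ρ Y) :
    X ⊔ Y ≤ fixS ρ S :=
  sup_le ((le_fixS_iff ρ).mpr hX) ((le_fixS_iff ρ).mpr hY)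

theorem off_fixS_ne_top (hρ : Function.Injective ρ) {A : Subgroup H} (h : A ≠ ⊥) : fixS ρ A ≠ ⊤ := by
  intro e
  refine h ((Subgroup.eq_bot_iff_forall _).mpr fun a ha => faithful_iff ρ hρ fun v => ?_)
  exact (e ▸ mem_top : v ∈ fixS ρ A) a ha

/-- a subgroup of a minimal offender other than itself and the trivial one is no offender -/
theorem minOff_lt {A B : Subgroup H} (hA : MinOff ρ A) (hB : B < A) (hB0 : B ≠ ⊥) :
    Nat.card B * Nat.card (fixS ρ B) < Nat.card V :=
  lt_of_not_ge fun h => hA.2 B hB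
    ⟨hA.1.1.to_le hB.le, fun a ha b hb => hA.1.2.1 a (hB.le ha) b (hB.le hb), hB0, h⟩

theorem minOff_card (hρ : Function.Injective ρ) {A : Subgroup H} (hA : MinOff ρ A) :
    Nat.card A * Nat.card (fixS ρ A) = Nat.card V := by
  haveI : Fact (Nat.Prime 2) := ⟨Nat.prime_two⟩
  obtain ⟨⟨hp, hc, hne, hoff⟩, hmin⟩ := id hA
  obtain ⟨n, hn⟩ := IsPGroup.iff_card.mp hp
  have hlt : fixS ρ A < ⊤ := lt_top_iff_ne_top.mpr (off_fixS_ne_top ρ hρ hne)
  rcases n with _ | m
  · exact absurd (Subgroup.card_eq_one.mp (by rw [hn, pow_zero])) hne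
  refine le_antisymm ?_ hoff
  rcases Nat.eq_zero_or_pos m with rfl | hm
  · rw [hn, pow_one, ← card_top_submodule (V := V)]
    exact two_mul_card_le hlt
  obtain ⟨B', hB'⟩ := Sylow.exists_subgroup_card_pow_prime 2 (n := m) (G := A)
    (by rw [hn]; exact pow_dvd_pow 2 m.le_succ)
  set B := B'.map A.subtype
  have hBc : Nat.card B = 2 ^ m := by rw [Subgroup.card_map_of_injective A.subtype_injective, hB']
  have hBA : B < A := lt_of_le_of_ne (Subgroup.map_subtype_le B') fun e => by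
    rw [e, hn] at hBc; exact absurd hBc (Nat.pow_lt_pow_right one_lt_two m.lt_succ_self).ne'
  have hB0 : B ≠ ⊥ := fun e => by
    rw [e, Subgroup.card_bot] at hBc; exact absurd hBc (Nat.one_lt_two_pow hm.ne').ne
  have h := lt_of_le_of_lt (Nat.mul_le_mul_left (Nat.card B)
    (card_le_card_of_le (fixS_anti ρ hBA.le))) (minOff_lt ρ hA hBA hB0)
  rw [hBc, Module.natCard_eq_pow_finrank (K := ZMod 2) (V := fixS ρ A),
    Module.natCard_eq_pow_finrank (K := ZMod 2) (V := V), Nat.card_zmod, ← pow_add] at h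
  rw [hn, Module.natCard_eq_pow_finrank (K := ZMod 2) (V := fixS ρ A),
    Module.natCard_eq_pow_finrank (K := ZMod 2) (V := V), Nat.card_zmod, ← pow_add]
  have := (Nat.pow_lt_pow_iff_right one_lt_two).mp h
  exact Nat.pow_le_pow_right two_pos (by omega)

/-- the bound for subgroups of a minimal offender -/
theorem minOff_sub_le (hρ : Function.Injective ρ) {A B : Subgroup H} (hA : MinOff ρ A) (hB : B ≤ A) :
    Nat.card B * Nat.card (fixS ρ B) ≤ Nat.card V := by
  rcases eq_or_lt_of_le hB with rfl | hlt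
  · exact (minOff_card ρ hρ hA).le
  by_cases h0 : B = ⊥
  · rw [h0, Subgroup.card_bot, one_mul, ← card_top_submodule (V := V)]
    exact card_le_card_of_le le_top
  · exact (minOff_lt ρ hA hlt h0).le

/-- a minimal offender offends on every subspace -/
theorem minOff_local (hρ : Function.Injective ρ) {A : Subgroup H} (hA : MinOff ρ A)
    (F : Submodule (ZMod 2) V) :
    Nat.card F * Nat.card (A ⊓ cent ρ F : Subgroup H) ≤
      Nat.card A * Nat.card (F ⊓ fixS ρ A : Submodule (ZMod 2) V) := by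
  set B : Subgroup H := A ⊓ cent ρ F
  have hB := minOff_sub_le ρ hρ hA (inf_le_left : B ≤ A)
  have hsup : F ⊔ fixS ρ A ≤ fixS ρ B :=
    sup_le ((le_fixS_iff ρ).mpr inf_le_right) (fixS_anti ρ inf_le_left)
  have h1 : Nat.card B * (Nat.card F * Nat.card (fixS ρ A)) ≤
      Nat.card A * Nat.card (F ⊓ fixS ρ A : Submodule (ZMod 2) V) * Nat.card (fixS ρ A) := by
    calc Nat.card B * (Nat.card F * Nat.card (fixS ρ A))
        = Nat.card B * Nat.card (F ⊔ fixS ρ A : Submodule (ZMod 2) V) *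
            Nat.card (F ⊓ fixS ρ A : Submodule (ZMod 2) V) := by rw [mul_assoc, card_sup_mul_card_inf]
      _ ≤ Nat.card V * Nat.card (F ⊓ fixS ρ A : Submodule (ZMod 2) V) :=
          Nat.mul_le_mul_right _ ((Nat.mul_le_mul_left _ (card_le_card_of_le hsup)).trans hB)
      _ = _ := by rw [← minOff_card ρ hρ hA]; ring
  rw [mul_comm (Nat.card F)]
  rw [← mul_assoc] at h1
  exact Nat.le_of_mul_le_mul_right h1 Nat.card_pos

theorem minOff_le_cent (hρ : Function.Injective ρ) {A T : Subgroup H} {X : Submodule (ZMod 2) V}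
    (hA : MinOff ρ A) (hle : A ≤ T) (hfree : OffFree ρ T X) : A ≤ cent ρ X :=
  hfree A hle (fun a ha b hb => by
    rw [hA.1.2.1 a ha b hb, mul_inv_cancel_right, mul_inv_cancel]; exact one_mem _)
    (minOff_local ρ hρ hA X)

theorem offJ_le_cent (hρ : Function.Injective ρ) {T : Subgroup H} {X : Submodule (ZMod 2) V}
    (hfree : OffFree ρ T X) : offJ ρ T ≤ cent ρ X :=
  (offJ_le_iff ρ).mpr fun _ hA hle => minOff_le_cent ρ hρ hA hle hfree

theorem offFree_mono {S T : Subgroup H} {X : Submodule (ZMod 2) V} (h : S ≤ T) (hf : OffFree ρ T X) :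
    OffFree ρ S X := fun D hD => hf D (hD.trans h)

theorem tr_inf (g : H) (X Y : Submodule (ZMod 2) V) : tr ρ g (X ⊓ Y) = tr ρ g X ⊓ tr ρ g Y := by
  ext v; simp [mem_tr]

theorem cnj_inf (g : H) (S T : Subgroup H) : cnj g (S ⊓ T) = cnj g S ⊓ cnj g T :=
  Subgroup.map_inf S T _ (MulAut.conj g).injective

theorem offFree_cnj {T : Subgroup H} {X : Submodule (ZMod 2) V} (g : H) (hf : OffFree ρ T X) :
    OffFree ρ (cnj g T) (tr ρ g X) := by
  intro D hD hcomm hcard
  rw [← cnj_cnj_inv g D, cent_tr]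
  refine cnj_mono g (hf _ ((cnj_le_iff _).mpr (by rwa [inv_inv])) (fun a ha b hb => ?_) ?_)
  · rw [mem_cnj, inv_inv] at ha hb
    have := hcomm _ ha _ hb
    rw [cent_tr, mem_cnj] at this
    simpa [mul_assoc] using this
  · rw [← cnj_cnj_inv g D, cent_tr, ← cnj_inf, card_cnj, card_cnj, fixS_cnj, ← tr_inf, card_tr,
      card_tr] at hcard
    exact hcard

/-- a space of commutators of a `2`-group equal to itself is zero -/
theorem eq_bot_of_le_comm {A : Subgroup H} (hA : IsPGroup 2 A) {W : Submodule (ZMod 2) V} (hW : A ≤ stab ρ W)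
    (h : W ≤ span (ZMod 2) {z | ∃ a ∈ A, ∃ w ∈ W, ρ a w - w = z}) : W = ⊥ := by
  by_contra hne
  let σ : Representation (ZMod 2) A W :=
    { toFun := fun a => (ρ (a : H)).restrict (fun w hw => hW a.2 w hw)
      map_one' := LinearMap.ext fun w => Subtype.ext (rho_one ρ _)
      map_mul' := fun a b => LinearMap.ext fun w => Subtype.ext (rho_mul ρ _ _ _) }
  haveI : Finite (Module.Dual (ZMod 2) W) := Finite.of_injective _ DFunLike.coe_injective
  have htop : (⊤ : Submodule (ZMod 2) (Module.Dual (ZMod 2) W)) ≠ ⊥ := by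
    intro e
    refine hne ((Submodule.eq_bot_iff _).mpr fun w hw => ?_)
    exact congrArg Subtype.val ((Module.forall_dual_apply_eq_zero_iff (ZMod 2) (⟨w, hw⟩ : W)).mp fun l => by
      rw [show l = 0 from (Submodule.mem_bot _).mp (e ▸ mem_top : l ∈ ⊥)]; rfl)
  obtain ⟨l, -, hl0, hl⟩ := exists_fixed σ.dual (S := (⊤ : Subgroup A))
    (hA.of_equiv Subgroup.topEquiv.symm) (Y := ⊤) (fun g _ w _ => mem_top) htop
  refine hl0 (LinearMap.ext fun w => ?_)
  have hle : span (ZMod 2) {z | ∃ a ∈ A, ∃ w ∈ W, ρ a w - w = z} ≤ (LinearMap.ker l).map W.subtype := by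
    rw [span_le]
    rintro _ ⟨a, ha, v, hv, rfl⟩
    refine ⟨σ ⟨a, ha⟩ ⟨v, hv⟩ - ⟨v, hv⟩, ?_, rfl⟩
    show l (_ - _) = 0
    have h1 := LinearMap.congr_fun (hl (⟨a, ha⟩ : A)⁻¹ trivial) (⟨v, hv⟩ : W)
    rw [Representation.dual_apply, inv_inv] at h1
    rw [map_sub, sub_eq_zero]
    exact h1
  obtain ⟨x, hx, e⟩ := hle (h w.2)
  rw [show w = x from Subtype.ext e.symm]
  exact hx

theorem comm_fixS {A : Subgroup H} (hc : ∀ a ∈ A, ∀ b ∈ A, a * b = b * a) {a : H} (ha : a ∈ A) {v : V}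
    (hv : v ∈ fixS ρ A) : ρ a v - v = 0 := by rw [hv a ha, sub_self]

/-- a minimal offender acts quadratically -/
theorem minOff_quad (hρ : Function.Injective ρ) {A : Subgroup H} (hA : MinOff ρ A) {a : H} (ha : a ∈ A)
    (v : V) : ρ a v - v ∈ fixS ρ A := by
  classical
  obtain ⟨⟨hp, hc, hne, -⟩, -⟩ := id hA
  set X := fixS ρ A
  let P : Submodule (ZMod 2) V := span (ZMod 2) {z | ∃ b ∈ A, ρ b v - v = z}
  let As : Subgroup H := A ⊓ cent ρ P
  have hPX : P ⊔ X ≤ fixS ρ As :=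
    sup_le ((le_fixS_iff ρ).mpr inf_le_right) (fixS_anti ρ inf_le_left)
  have hsame : ∀ b ∈ A, ∀ c ∈ A, ρ b v - v - (ρ c v - v) ∈ X → b⁻¹ * c ∈ As := by
    intro b hb c hc' hX
    set d := b⁻¹ * c
    have hd : d ∈ A := mul_mem (inv_mem hb) hc'
    have hdX : ρ d v - v ∈ X := by
      have h1 := hX b⁻¹ (inv_mem hb)
      have h2 : ρ b v - v - (ρ c v - v) = -(ρ d v - v) := by
        rw [← h1]
        simp only [map_sub, rho_inv_cancel, ← rho_mul, inv_mul_cancel, rho_one, d]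
        abel
      rw [h2] at hX
      exact neg_mem_iff.mp hX
    refine ⟨hd, fun p hp => ?_⟩
    induction hp using Submodule.span_induction with
    | mem z hz =>
      obtain ⟨e, he, rfl⟩ := hz
      have h1 := hdX e he
      rw [map_sub] at h1 ⊢
      rw [← rho_mul, hc d hd e he, rho_mul]
      calc ρ e (ρ d v) - ρ d v = (ρ e (ρ d v) - ρ e v) + ρ e v - ρ d v := by abel
        _ = _ := by rw [h1]; abel
    | zero => exact map_zero _
    | add x y _ _ hx hy => rw [map_add, hx, hy]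
    | smul c x _ hx => rw [map_smul, hx]
  have hcount : Nat.card A * Nat.card X ≤ Nat.card As * Nat.card (P ⊔ X : Submodule (ZMod 2) V) := by
    let PX : Submodule (ZMod 2) V := P ⊔ X
    let f : (PX : Submodule (ZMod 2) V) →ₗ[ZMod 2] V ⧸ X := X.mkQ.comp PX.subtype
    have hk : Nat.card (LinearMap.ker f) = Nat.card X := by
      refine Nat.card_congr ⟨fun x => ⟨x.1.1, (Quotient.mk_eq_zero X).mp x.2⟩,
        fun x => ⟨⟨x.1, mem_sup_right x.2⟩, (Quotient.mk_eq_zero X).mpr x.2⟩, fun x => rfl, fun x => rfl⟩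
    have hPXc : Nat.card PX = Nat.card (LinearMap.range f) * Nat.card X := by
      rw [Submodule.card_eq_card_quotient_mul_card (LinearMap.ker f), hk,
        Nat.card_congr f.quotKerEquivRange.toEquiv, mul_comm]
    haveI : Finite (V ⧸ X) := Finite.of_surjective _ X.mkQ_surjective
    let g : A → LinearMap.range f := fun b =>
      ⟨X.mkQ (ρ (b : H) v - v), ⟨⟨_, mem_sup_left (subset_span ⟨b, b.2, rfl⟩)⟩, rfl⟩⟩
    let g' : (A ⧸ As.subgroupOf A) → LinearMap.range f := fun q => g q.out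
    have hg : Function.Injective g' := by
      intro q r h
      rw [← q.out_eq, ← r.out_eq]
      refine QuotientGroup.eq.mpr ?_
      exact hsame _ q.out.2 _ r.out.2 ((Submodule.Quotient.eq X).mp (congrArg Subtype.val h))
    rw [Subgroup.card_eq_card_quotient_mul_card_subgroup (As.subgroupOf A),
      Nat.card_congr (Subgroup.subgroupOfEquivOfLe (inf_le_left : As ≤ A)).toEquiv,
      show Nat.card (P ⊔ X : Submodule (ZMod 2) V) = _ from hPXc]
    calc Nat.card (A ⧸ As.subgroupOf A) * Nat.card As * Nat.card X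
        ≤ Nat.card (LinearMap.range f) * Nat.card As * Nat.card X :=
          Nat.mul_le_mul_right _ (Nat.mul_le_mul_right _ (Nat.card_le_card_of_injective g' hg))
      _ = _ := by ring
  rw [minOff_card ρ hρ hA] at hcount
  by_cases hAs : As = A
  · intro b hb
    exact (hAs.ge hb : b ∈ As).2 _ (subset_span ⟨a, ha, rfl⟩)
  have hAsbot : As = ⊥ := by
    by_contra h0
    exact absurd (hcount.trans (Nat.mul_le_mul_left _ (card_le_card_of_le hPX)))
      (not_le.mpr (minOff_lt ρ hA (lt_of_le_of_ne inf_le_left hAs) h0))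
  rw [hAsbot, Subgroup.card_bot, one_mul] at hcount
  have htop := eq_top_of_card_le hcount
  let W : Submodule (ZMod 2) V := span (ZMod 2) {z | ∃ b ∈ A, ∃ w : V, ρ b w - w = z}
  have hWinv : A ≤ stab ρ W := by
    intro g hg w hw
    induction hw using Submodule.span_induction with
    | mem z hz =>
      obtain ⟨b, hb, u, rfl⟩ := hz
      refine subset_span ⟨b, hb, ρ g u, ?_⟩
      rw [map_sub, ← rho_mul, ← rho_mul, hc b hb g hg]
    | zero => rw [map_zero]; exact zero_mem _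
    | add x y _ _ hx hy => rw [map_add]; exact add_mem hx hy
    | smul c x _ hx => rw [map_smul]; exact smul_mem _ c hx
  have hW0 : W = ⊥ := by
    refine eq_bot_of_le_comm ρ hp hWinv (span_le.mpr ?_)
    rintro _ ⟨b, hb, w, rfl⟩
    obtain ⟨p, hpP, x, hx, rfl⟩ := Submodule.mem_sup.mp (htop.ge (mem_top : w ∈ ⊤))
    refine subset_span ⟨b, hb, p, ?_, by rw [map_add, hx b hb]; abel⟩
    exact (span_mono fun z ⟨c, hc, e⟩ => ⟨c, hc, v, e⟩ : P ≤ W) hpP
  refine absurd ((Subgroup.eq_bot_iff_forall A).mpr fun b hb => faithful_iff ρ hρ fun w => ?_) hne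
  exact sub_eq_zero.mp ((Submodule.eq_bot_iff _).mp hW0 _ (subset_span ⟨b, hb, w, rfl⟩))

end Cfsg.Lib.FF
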