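import Cfsg.Agent.FF.Factor
import Cfsg.Agent.SThreeFree.Functors
import Cfsg.Agent.Components.Functor.TripleFactor

/-!
The centre and the elementary Thompson subgroup control `2`-fusion in groups without a section `S₄`,
and in no group isomorphic to `S₄`.
-/

set_option autoImplicit false
set_option linter.unusedSectionVars false
set_option linter.style.haveILetI false

namespace Cfsg.Lib.FF

open Subgroup
open Cfsg.Lib.SThreeFree (jFun induced_jFun jFun_charP)
open Cfsg.Lib.Functor (CtrlAll ind)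

universe u

/-- `Q ↦ Z(Q)` -/
def centerFun (Q : Type u) [Group Q] : Subgroup Q := Subgroup.center Q

theorem induced_centerFun {G : Type u} [Group G] (P : Subgroup G) :
    Cfsg.inducedFunctor centerFun P = P ⊓ centralizer (P : Set G) := by
  ext x
  constructor
  · rintro ⟨y, hy, rfl⟩
    exact ⟨y.2, mem_centralizer_iff.2 fun q hq => congrArg Subtype.val (mem_center_iff.1 hy ⟨q, hq⟩)⟩
  · rintro ⟨hx, hc⟩
    exact ⟨⟨x, hx⟩, mem_center_iff.2 fun q => Subtype.ext (mem_centralizer_iff.1 hc q q.2), rfl⟩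

theorem centerFun_charP {p : ℕ} [Fact p.Prime] : Cfsg.IsCharPFunctor.{u} p centerFun := by
  refine ⟨fun Q _ _ hQ _ => ?_, fun Q R _ _ _ _ φ => ?_⟩
  · haveI := hQ.center_nontrivial
    exact (nontrivial_iff_ne_bot _).1 this
  · ext x
    constructor
    · rintro ⟨y, hy, rfl⟩
      refine mem_center_iff.2 fun g => ?_
      obtain ⟨a, rfl⟩ := φ.surjective g
      show φ a * φ y = φ y * φ a
      rw [← map_mul, ← map_mul, mem_center_iff.1 hy a]
    · intro hx
      refine ⟨φ.symm x, mem_center_iff.2 fun g => φ.injective ?_, φ.apply_symm_apply x⟩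
      rw [map_mul, map_mul, φ.apply_symm_apply]
      exact mem_center_iff.1 hx (φ g)

theorem charP_pair : ∀ W ∈ ({centerFun, jFun} : Set (∀ (Q : Type u) [Group Q], Subgroup Q)),
    Cfsg.IsCharPFunctor.{u} 2 W := by
  haveI : Fact (Nat.Prime 2) := ⟨Nat.prime_two⟩
  rintro W (rfl | rfl)
  exacts [centerFun_charP, jFun_charP]

theorem ind_pair (G : Type u) [Group G] :
    ind ({centerFun, jFun} : Set (∀ (Q : Type u) [Group Q], Subgroup Q)) G =
      ({fun P : Subgroup G => P ⊓ centralizer ((P : Subgroup G) : Set G),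
        fun P : Subgroup G => Cfsg.thompsonSubgroupOf 2 P} : Set (Subgroup G → Subgroup G)) := by
  rw [ind, Set.image_pair]
  refine congrArg₂ (fun a b => ({a, b} : Set (Subgroup G → Subgroup G))) (funext fun P => induced_centerFun P)
    (funext fun P => ?_)
  show (jFun ↥P).map P.subtype = _
  rw [jFun, Cfsg.Lib.Thompson.map_thompsonSubgroupOf P.subtype_injective.injOn, ← MonoidHom.range_eq_map,
    range_subtype]

/-- the pair controls fusion without a section `S₄` -/
theorem ctrlAll_pair [Fact (Nat.Prime 2)] {G : Type u} [Group G] [Finite G]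
    (hfree : ¬ Cfsg.Involves (Equiv.Perm (Fin 4)) G) :
    CtrlAll 2 ({centerFun, jFun} : Set (∀ (Q : Type u) [Group Q], Subgroup Q)) G := by
  refine Cfsg.Lib.Functor.ctrl_main charP_pair _ G rfl
    (Cfsg.Lib.Functor.crit_of_sections charP_pair fun K R _ hc => ?_)
  refine Cfsg.Lib.Triple.ctrlAll_of_factor centerFun_charP jFun_charP fun S x => ?_
  obtain ⟨c, hc', n, hn, e⟩ := center_thompson_product hc
    (fun hi => hfree (Cfsg.Lib.QdFree.involves_of_section hi)) S x
  refine ⟨c, ?_, n, ?_, e⟩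
  · rw [induced_centerFun]
    exact Cfsg.Lib.Thompson.centralizer_le_normalizer _ hc'
  · rw [induced_jFun]
    exact hn

section four

open Equiv

theorem swapPair_facts :
    (∀ σ : Equiv.Perm (Fin 4), σ * (swap 0 1 * swap 2 3) = (swap 0 1 * swap 2 3) * σ →
        ((∀ τ : Equiv.Perm (Fin 4), τ * (swap 0 1 * swap 2 3) = (swap 0 1 * swap 2 3) * τ → τ * σ = σ * τ) →
          σ = 1 ∨ σ = swap 0 1 * swap 2 3)) ∧
    (∀ g : Equiv.Perm (Fin 4),
      (∀ d : Equiv.Perm (Fin 4), d * (swap 0 1 * swap 2 3) = (swap 0 1 * swap 2 3) * d →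
        g * d * g⁻¹ * (swap 0 1 * swap 2 3) = (swap 0 1 * swap 2 3) * (g * d * g⁻¹)) →
      g * (swap 0 1 * swap 2 3) = (swap 0 1 * swap 2 3) * g) := by decide +kernel

theorem swapPair_moved :
    swap (1 : Fin 4) 2 * (swap 0 1 * swap 2 3) * (swap (1 : Fin 4) 2)⁻¹ = swap 0 2 * swap 1 3 ∧
    (swap 0 2 * swap 1 3 : Equiv.Perm (Fin 4)) ≠ swap 0 1 * swap 2 3 ∧
    (swap 0 2 * swap 1 3 : Equiv.Perm (Fin 4)) * (swap 0 1 * swap 2 3) =
      (swap 0 1 * swap 2 3) * (swap 0 2 * swap 1 3) := by decide +kernel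

/-- the first four-group -/
def kleinA : Finset (Equiv.Perm (Fin 4)) := {1, swap 0 1, swap 2 3, swap 0 1 * swap 2 3}

/-- the second four-group -/
def kleinB : Finset (Equiv.Perm (Fin 4)) :=
  {1, swap 0 1 * swap 2 3, swap 0 2 * swap 1 3, swap 0 3 * swap 1 2}

theorem kleinA_group : ∀ a ∈ kleinA, ∀ b ∈ kleinA, a * b ∈ kleinA ∧ a * b = b * a ∧ a⁻¹ = a := by decide +kernel

theorem kleinB_group : ∀ a ∈ kleinB, ∀ b ∈ kleinB, a * b ∈ kleinB ∧ a * b = b * a ∧ a⁻¹ = a := by decide +kernel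

theorem kleinA_le : ∀ a ∈ kleinA, a * (swap 0 1 * swap 2 3) = (swap 0 1 * swap 2 3) * a := by decide +kernel

theorem kleinB_le : ∀ a ∈ kleinB, a * (swap 0 1 * swap 2 3) = (swap 0 1 * swap 2 3) * a := by decide +kernel

theorem klein_card : kleinA.card = 4 ∧ kleinB.card = 4 ∧ (1 : Equiv.Perm (Fin 4)) ∈ kleinA ∧
    (1 : Equiv.Perm (Fin 4)) ∈ kleinB := by decide +kernel

theorem klein_generate : ∀ σ : Equiv.Perm (Fin 4), σ * (swap 0 1 * swap 2 3) = (swap 0 1 * swap 2 3) * σ →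
    ∃ a ∈ kleinA, ∃ b ∈ kleinB, σ = a * b := by decide +kernel

theorem centralizer_card_facts :
    (Finset.univ.filter fun σ : Equiv.Perm (Fin 4) =>
      σ * (swap 0 1 * swap 2 3) = (swap 0 1 * swap 2 3) * σ).card = 8 ∧
    ∃ a ∈ kleinA, ∃ b ∈ kleinB, a * b ≠ b * a := by decide +kernel

/-- the pair does not control fusion in `S₄` -/
theorem not_ctrlAll_four [Fact (Nat.Prime 2)] :
    ¬ CtrlAll 2 ({centerFun, jFun} : Set (∀ (Q : Type u) [Group Q], Subgroup Q))
      (ULift.{u} (Equiv.Perm (Fin 4))) := by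
  classical
  intro h
  set z : ULift.{u} (Equiv.Perm (Fin 4)) := ⟨swap 0 1 * swap 2 3⟩
  set D : Subgroup (ULift.{u} (Equiv.Perm (Fin 4))) := centralizer {z}
  have hD : ∀ x, x ∈ D ↔ x.down * (swap 0 1 * swap 2 3) = (swap 0 1 * swap 2 3) * x.down := by
    intro x
    rw [mem_centralizer_singleton_iff]
    exact ⟨fun e => (congrArg ULift.down e), fun e => ULift.ext _ _ e⟩
  have hcard : Nat.card D = 8 := by
    rw [← centralizer_card_facts.1, ← Nat.card_eq_finsetCard]
    exact Nat.card_congr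
      { toFun := fun x => ⟨x.1.down, Finset.mem_filter.2 ⟨Finset.mem_univ _, (hD _).1 x.2⟩⟩
        invFun := fun x => ⟨⟨x.1⟩, (hD _).2 (Finset.mem_filter.1 x.2).2⟩
        left_inv := fun x => rfl
        right_inv := fun x => rfl }
  have hDp : IsPGroup 2 D := IsPGroup.of_card (n := 3) hcard
  have hidx : ¬ 2 ∣ D.index := by
    have h1 := D.card_mul_index
    rw [hcard, Nat.card_congr Equiv.ulift, Nat.card_perm, Nat.card_fin] at h1
    norm_num [Nat.factorial] at h1
    omega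
  set S : Sylow 2 (ULift.{u} (Equiv.Perm (Fin 4))) := hDp.toSylow hidx
  have hS : (S : Subgroup (ULift.{u} (Equiv.Perm (Fin 4)))) = D := rfl
  have hzD : z ∈ D := (hD z).2 rfl
  -- both normalizers lie in `D`
  have hNZ : normalizer ((Cfsg.inducedFunctor centerFun D : Subgroup _) : Set (ULift.{u} (Equiv.Perm (Fin 4)))) ≤ D := by
    intro x hx
    rw [induced_centerFun] at hx
    have hz : z ∈ D ⊓ centralizer (D : Set _) :=
      ⟨hzD, mem_centralizer_iff.2 fun d hd => (mem_centralizer_singleton_iff.1 hd)⟩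
    have hw := (mem_normalizer_iff.1 hx z).1 hz
    obtain ⟨hw1, hw2⟩ := mem_inf.1 hw
    rcases swapPair_facts.1 (x * z * x⁻¹).down ((hD _).1 hw1) (fun τ hτ =>
      congrArg ULift.down (mem_centralizer_iff.1 hw2 ⟨τ⟩ ((hD ⟨τ⟩).2 hτ))) with e | e
    · exfalso
      have e2 : x * z * x⁻¹ = 1 := ULift.ext _ _ e
      rw [conj_eq_one_iff] at e2
      exact absurd (congrArg ULift.down e2) (by decide +kernel)
    · refine mem_centralizer_singleton_iff.2 ?_
      have e2 : x * z * x⁻¹ = z := ULift.ext _ _ e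
      exact mul_inv_eq_iff_eq_mul.1 e2
  have hJ : Cfsg.thompsonSubgroupOf 2 D = D := by
    refine le_antisymm (Cfsg.Lib.Thompson.thompsonSubgroupOf_le _) ?_
    have mk : ∀ s : Finset (Equiv.Perm (Fin 4)), (∀ a ∈ s, ∀ b ∈ s, a * b ∈ s ∧ a * b = b * a ∧ a⁻¹ = a) →
        (∀ a ∈ s, a * (swap 0 1 * swap 2 3) = (swap 0 1 * swap 2 3) * a) → s.card = 4 → (1 : Equiv.Perm (Fin 4)) ∈ s →
        ∀ a ∈ s, (⟨a⟩ : ULift.{u} (Equiv.Perm (Fin 4))) ∈ Cfsg.thompsonSubgroupOf 2 D := by
      intro s h1 h2 h3 h4 a ha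
      let B : Subgroup (ULift.{u} (Equiv.Perm (Fin 4))) :=
        { carrier := {x | x.down ∈ s}
          mul_mem' := fun {x y} hx hy => (h1 _ hx _ hy).1
          one_mem' := h4
          inv_mem' := fun {x} hx => by
            show x.down⁻¹ ∈ s
            rw [(h1 _ hx _ hx).2.2]
            exact hx }
      have hBc : Nat.card B = 4 := by
        refine Eq.trans ?_ ((Nat.card_eq_finsetCard s).trans h3)
        exact Nat.card_congr ⟨fun x => ⟨x.1.down, x.2⟩, fun x => ⟨⟨x.1⟩, x.2⟩, fun x => rfl, fun x => rfl⟩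
      have hBD : B ≤ D := fun x hx => (hD x).2 (h2 _ hx)
      suffices hmax : Cfsg.Lib.Thompson.IsMaxElem 2 D B by
        exact (Cfsg.Lib.Thompson.thompsonSubgroupOf_eq (p := 2) D).ge
          (le_sSup (s := {A | Cfsg.Lib.Thompson.IsMaxElem 2 D A}) hmax ha)
      refine ⟨hBD, ?_, fun C hC hCe => ?_⟩
      · refine Cfsg.Lib.JComp.elem_of_sq fun x hx => ULift.ext _ _ ?_
        show x.down * x.down = 1
        conv_lhs => arg 2; rw [← (h1 _ hx _ hx).2.2]
        exact mul_inv_cancel _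
      · rw [hBc]
        have hd : Nat.card C ∣ 2 ^ 3 := by
          show Nat.card C ∣ 8
          rw [← hcard]
          exact card_dvd_of_le hC
        obtain ⟨i, hi, e⟩ := (Nat.dvd_prime_pow Nat.prime_two).1 hd
        rcases Nat.lt_or_ge i 3 with hlt | hge
        · rw [e]; exact le_trans (Nat.pow_le_pow_right two_pos (Nat.le_of_lt_succ hlt)) (by norm_num)
        · exfalso
          obtain rfl : i = 3 := le_antisymm hi hge
          have hCD : C = D := Subgroup.eq_of_le_of_card_ge hC (by rw [hcard, e]; norm_num)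
          obtain ⟨a, ha, b, hb, hne⟩ := centralizer_card_facts.2
          exact hne (congrArg (fun y : C => (y : ULift.{u} (Equiv.Perm (Fin 4))).down)
            (hCe.1.is_comm.comm ⟨⟨a⟩, hCD ▸ (hD ⟨a⟩).2 (kleinA_le a ha)⟩
              ⟨⟨b⟩, hCD ▸ (hD ⟨b⟩).2 (kleinB_le b hb)⟩))
    intro x hx
    obtain ⟨a, ha, b, hb, e⟩ := klein_generate x.down ((hD x).1 hx)
    rw [show x = (⟨a⟩ : ULift.{u} (Equiv.Perm (Fin 4))) * ⟨b⟩ from ULift.ext _ _ e]
    exact mul_mem (mk kleinA kleinA_group kleinA_le klein_card.1 klein_card.2.2.1 a ha)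
      (mk kleinB kleinB_group kleinB_le klein_card.2.1 klein_card.2.2.2 b hb)
  have hNJ : normalizer ((Cfsg.inducedFunctor jFun D : Subgroup _) : Set (ULift.{u} (Equiv.Perm (Fin 4)))) ≤ D := by
    intro x hx
    rw [induced_jFun, hJ] at hx
    refine (hD x).2 (swapPair_facts.2 x.down fun d hd => ?_)
    exact (hD (x * ⟨d⟩ * x⁻¹)).1 ((mem_normalizer_iff.1 hx ⟨d⟩).1 ((hD ⟨d⟩).2 hd))
  -- a fusion not generated in `D`
  set g : ULift.{u} (Equiv.Perm (Fin 4)) := ⟨swap 1 2⟩
  obtain ⟨c, hc, hcg⟩ := h S {z} g (by rw [hS]; exact Set.singleton_subset_iff.2 hzD) (by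
    refine Cfsg.Lib.Control.img_subset_iff.2 fun a ha => ?_
    rw [Set.mem_singleton_iff.1 ha, hS]
    refine (hD _).2 ?_
    show (swap (1 : Fin 4) 2 * (swap 0 1 * swap 2 3) * (swap (1 : Fin 4) 2)⁻¹) * (swap 0 1 * swap 2 3) =
      (swap 0 1 * swap 2 3) * (swap (1 : Fin 4) 2 * (swap 0 1 * swap 2 3) * (swap (1 : Fin 4) 2)⁻¹)
    rw [swapPair_moved.1]
    exact swapPair_moved.2.2)
  have hcD : c ∈ D := by
    clear hcg
    induction hc with
    | one => exact one_mem _
    | mul _ hst ih =>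
      refine mul_mem ?_ ih
      obtain ⟨⟨W, hW, hx⟩, -, -⟩ := hst
      obtain ⟨W₀, hW₀, rfl⟩ := hW
      rcases hW₀ with rfl | rfl
      · exact hNZ (hS ▸ (mem_inf.1 hx).2)
      · exact hNJ (hS ▸ (mem_inf.1 hx).2)
  have h1 := hcg z rfl
  rw [mul_inv_eq_iff_eq_mul.2 (mem_centralizer_singleton_iff.1 hcD)] at h1
  exact swapPair_moved.2.1 (swapPair_moved.1.symm.trans (congrArg ULift.down h1).symm)

end four

end Cfsg.Lib.FF
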