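import Mathlib.RepresentationTheory.Basic
import Mathlib.LinearAlgebra.Dual.Lemmas
import Mathlib.GroupTheory.PGroup
import Mathlib.Algebra.Field.ZMod

/-!
Fixed points, centralizers and offenders for representations over `ZMod 2`.
-/

set_option autoImplicit false
set_option linter.unusedSectionVars false

namespace Cfsg.Lib.FF

open Submodule

universe u

variable {H : Type u} [Group H] {V : Type u} [AddCommGroup V] [Module (ZMod 2) V]
  (ρ : Representation (ZMod 2) H V)

theorem rho_mul (g h : H) (v : V) : ρ (g * h) v = ρ g (ρ h v) := by rw [map_mul]; rfl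

theorem rho_one (v : V) : ρ 1 v = v := by rw [map_one]; rfl

theorem add_self_eq_zero' (v : V) : v + v = 0 := by
  rw [← two_smul (ZMod 2) v, show (2 : ZMod 2) = 0 from rfl, zero_smul]

theorem sub_eq_add' (v w : V) : v - w = v + w := by
  rw [sub_eq_add_neg, neg_eq_of_add_eq_zero_left (add_self_eq_zero' w)]

/-- the vectors fixed by a subgroup -/
def fixS (S : Subgroup H) : Submodule (ZMod 2) V where
  carrier := {v | ∀ g ∈ S, ρ g v = v}
  add_mem' := fun ha hb g hg => by rw [map_add, ha g hg, hb g hg]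
  zero_mem' := fun g _ => map_zero _
  smul_mem' := fun c _ hv g hg => by rw [map_smul, hv g hg]

theorem mem_fixS {S : Subgroup H} {v : V} : v ∈ fixS ρ S ↔ ∀ g ∈ S, ρ g v = v := Iff.rfl

theorem fixS_anti {S T : Subgroup H} (h : S ≤ T) : fixS ρ T ≤ fixS ρ S := fun _ hv g hg => hv g (h hg)

/-- the elements fixing a subspace pointwise -/
def cent (W : Submodule (ZMod 2) V) : Subgroup H where
  carrier := {g | ∀ w ∈ W, ρ g w = w}
  mul_mem' := fun ha hb w hw => by rw [rho_mul, hb w hw, ha w hw]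
  one_mem' := fun w _ => rho_one ρ w
  inv_mem' := fun {g} hg w hw => by
    conv_lhs => rw [← hg w hw]
    rw [← rho_mul, inv_mul_cancel, rho_one]

theorem mem_cent {W : Submodule (ZMod 2) V} {g : H} : g ∈ cent ρ W ↔ ∀ w ∈ W, ρ g w = w := Iff.rfl

theorem cent_anti {W W' : Submodule (ZMod 2) V} (h : W ≤ W') : cent ρ W' ≤ cent ρ W := fun _ hg w hw => hg w (h hw)

theorem le_fixS_iff {W : Submodule (ZMod 2) V} {S : Subgroup H} : W ≤ fixS ρ S ↔ S ≤ cent ρ W :=
  ⟨fun h g hg w hw => h hw g hg, fun h w hw g hg => h hg w hw⟩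

/-- invariance of a subspace -/
def Invar (S : Subgroup H) (W : Submodule (ZMod 2) V) : Prop := ∀ g ∈ S, ∀ w ∈ W, ρ g w ∈ W

/-- the stabilizer of a subspace -/
def stab [Finite V] (W : Submodule (ZMod 2) V) : Subgroup H where
  carrier := {g | ∀ w ∈ W, ρ g w ∈ W}
  mul_mem' := fun ha hb w hw => by rw [rho_mul]; exact ha _ (hb w hw)
  one_mem' := fun w hw => by rwa [rho_one]
  inv_mem' := fun {g} hg w hw => by
    let f : W → W := fun x => ⟨ρ g x, hg x x.2⟩
    have hf : Function.Injective f := fun x y h => Subtype.ext (by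
      have := congrArg (ρ g⁻¹) (congrArg Subtype.val h)
      rwa [← rho_mul, ← rho_mul, inv_mul_cancel, rho_one, rho_one] at this)
    obtain ⟨x, hx⟩ := (Finite.injective_iff_surjective.mp hf) ⟨w, hw⟩
    rw [show w = ρ g x from (congrArg Subtype.val hx).symm, ← rho_mul, inv_mul_cancel, rho_one]
    exact x.2

theorem mem_stab [Finite V] {W : Submodule (ZMod 2) V} {g : H} : g ∈ stab ρ W ↔ ∀ w ∈ W, ρ g w ∈ W := Iff.rfl

theorem cent_le_stab [Finite V] (W : Submodule (ZMod 2) V) : cent ρ W ≤ stab ρ W :=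
  fun g hg w hw => by rw [hg w hw]; exact hw

theorem invar_iff_le_stab [Finite V] {S : Subgroup H} {W : Submodule (ZMod 2) V} :
    Invar ρ S W ↔ S ≤ stab ρ W := Iff.rfl

/-- an abelian `2`-subgroup which is an offender -/
def Off (A : Subgroup H) : Prop :=
  IsPGroup 2 A ∧ (∀ a ∈ A, ∀ b ∈ A, a * b = b * a) ∧ A ≠ ⊥ ∧
    Nat.card V ≤ Nat.card A * Nat.card (fixS ρ A)

/-- a minimal offender -/
def MinOff (A : Subgroup H) : Prop := Off ρ A ∧ ∀ B : Subgroup H, B < A → ¬ Off ρ B

/-- the subgroup generated by the minimal offenders of `R` -/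
def offJ (R : Subgroup H) : Subgroup H := sSup {A | MinOff ρ A ∧ A ≤ R}

/-- no subgroup of `T` acts on `X` as a nontrivial abelian offender -/
def OffFree (T : Subgroup H) (X : Submodule (ZMod 2) V) : Prop :=
  ∀ D : Subgroup H, D ≤ T → (∀ a ∈ D, ∀ b ∈ D, a * b * a⁻¹ * b⁻¹ ∈ cent ρ X) →
    Nat.card X * Nat.card (D ⊓ cent ρ X : Subgroup H) ≤
      Nat.card D * Nat.card (X ⊓ fixS ρ D : Submodule (ZMod 2) V) → D ≤ cent ρ X

end Cfsg.Lib.FF
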