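import Cfsg.Agent.FF.Basic
import Cfsg.Agent.Components.Qd.Free

/-!
Representations derived from a given one: restriction, action on an invariant subspace, faithful quotient.
-/

set_option autoImplicit false
set_option linter.unusedSectionVars false

namespace Cfsg.Lib.FF

open Submodule

universe u

/-- no section isomorphic to the symmetric group of degree three -/
abbrev S3Free (H : Type u) [Group H] : Prop := ¬ Cfsg.Involves (Equiv.Perm (Fin 3)) H

theorem s3free_sub {H : Type u} [Group H] (h : S3Free H) (K : Subgroup H) : S3Free K :=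
  fun hi => h (Cfsg.Lib.QdFree.involves_of_injective K.subtype_injective hi)

theorem s3free_quot {H : Type u} [Group H] (h : S3Free H) (N : Subgroup H) [N.Normal] : S3Free (H ⧸ N) :=
  fun hi => h (Cfsg.Lib.QuadPair.involves_of_surjective (QuotientGroup.mk'_surjective N) hi)

/-- no nontrivial normal `2`-subgroup -/
def O2Triv (H : Type u) [Group H] : Prop := ∀ R : Subgroup H, R.Normal → IsPGroup 2 R → R = ⊥

variable {H : Type u} [Group H] [Finite H] {V : Type u} [AddCommGroup V] [Module (ZMod 2) V] [Finite V]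
  (ρ : Representation (ZMod 2) H V)

theorem le_stab_fixS (S : Subgroup H) : Subgroup.normalizer (S : Set H) ≤ stab ρ (fixS ρ S) := fun g hg => by
  rw [← tr_eq_self_iff, ← fixS_cnj, mem_normalizer_iff_cnj.mp hg]

theorem cent_normalized (W : Submodule (ZMod 2) V) : stab ρ W ≤ Subgroup.normalizer (cent ρ W : Set H) :=
  fun g hg => by rw [mem_normalizer_iff_cnj, ← cent_tr, (tr_eq_self_iff ρ).mpr hg]

theorem card_map_mul_card_inf_ker {G M : Type*} [Group G] [Group M] [Finite G] (f : G →* M) (S : Subgroup G) :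
    Nat.card (S.map f) * Nat.card (S ⊓ f.ker : Subgroup G) = Nat.card S := by
  rw [Subgroup.card_eq_card_quotient_mul_card_subgroup ((f.comp S.subtype).ker),
    Nat.card_congr (QuotientGroup.quotientKerEquivRange (f.comp S.subtype)).toEquiv,
    MonoidHom.range_comp, Subgroup.range_subtype]
  congr 1
  exact Nat.card_congr ⟨fun x => ⟨⟨x.1, x.2.1⟩, x.2.2⟩, fun x => ⟨x.1.1, x.1.2, x.2⟩, fun x => rfl, fun x => rfl⟩

/-! ### restriction to a subgroup -/

/-- restriction -/
def rs (K : Subgroup H) : Representation (ZMod 2) K V := ρ.comp K.subtype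

theorem rs_apply (K : Subgroup H) (g : K) (v : V) : rs ρ K g v = ρ g v := rfl

theorem rs_injective (h : Function.Injective ρ) (K : Subgroup H) : Function.Injective (rs ρ K) :=
  h.comp K.subtype_injective

variable {K : Subgroup H}

theorem fixS_rs (S : Subgroup K) : fixS (rs ρ K) S = fixS ρ (S.map K.subtype) := by
  ext v
  constructor
  · rintro h _ ⟨g, hg, rfl⟩; exact h g hg
  · intro h g hg; exact h g ⟨g, hg, rfl⟩

theorem cent_rs (W : Submodule (ZMod 2) V) : cent (rs ρ K) W = (cent ρ W).subgroupOf K := rfl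

theorem stab_rs (W : Submodule (ZMod 2) V) : stab (rs ρ K) W = (stab ρ W).subgroupOf K := rfl

theorem off_rs_iff (A : Subgroup K) : Off (rs ρ K) A ↔ Off ρ (A.map K.subtype) := by
  rw [Off, Off, fixS_rs, Subgroup.card_map_of_injective K.subtype_injective,
    Ne, Ne, Subgroup.map_eq_bot_iff_of_injective _ K.subtype_injective]
  refine and_congr ⟨fun h => h.map _, fun h => h.of_equiv
    (A.equivMapOfInjective K.subtype K.subtype_injective).symm⟩ (and_congr ?_ Iff.rfl)
  constructor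
  · rintro h _ ⟨a, ha, rfl⟩ _ ⟨b, hb, rfl⟩
    rw [← map_mul, ← map_mul, h a ha b hb]
  · intro h a ha b hb
    exact K.subtype_injective (by rw [map_mul, map_mul]; exact h _ ⟨a, ha, rfl⟩ _ ⟨b, hb, rfl⟩)

theorem minOff_rs_iff (A : Subgroup K) : MinOff (rs ρ K) A ↔ MinOff ρ (A.map K.subtype) := by
  refine and_congr (off_rs_iff ρ A) ⟨fun h B hB hoff => ?_, fun h B hB hoff => ?_⟩
  · have hBK : B ≤ K := hB.le.trans (Subgroup.map_subtype_le A)
    refine h (B.subgroupOf K) ?_ ((off_rs_iff ρ _).mpr (by rwa [Subgroup.map_subgroupOf_eq_of_le hBK]))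
    rw [← Subgroup.map_lt_map_iff_of_injective K.subtype_injective, Subgroup.map_subgroupOf_eq_of_le hBK]
    exact hB
  · exact h _ ((Subgroup.map_lt_map_iff_of_injective K.subtype_injective).mpr hB) ((off_rs_iff ρ B).mp hoff)

theorem offJ_rs (R : Subgroup K) : (offJ (rs ρ K) R).map K.subtype = offJ ρ (R.map K.subtype) := by
  refine le_antisymm ?_ ((offJ_le_iff ρ).mpr fun A hA hle => ?_)
  · rw [Subgroup.map_le_iff_le_comap, offJ_le_iff]
    intro A hA hle
    rw [← Subgroup.map_le_iff_le_comap]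
    exact le_offJ ρ ((minOff_rs_iff ρ A).mp hA) (Subgroup.map_mono hle)
  · have hAK : A ≤ K := hle.trans (Subgroup.map_subtype_le R)
    rw [← Subgroup.map_subgroupOf_eq_of_le hAK]
    refine Subgroup.map_mono (le_offJ _ ((minOff_rs_iff ρ _).mpr ?_) ?_)
    · rwa [Subgroup.map_subgroupOf_eq_of_le hAK]
    · rw [← Subgroup.map_le_map_iff_of_injective K.subtype_injective, Subgroup.map_subgroupOf_eq_of_le hAK]
      exact hle

theorem offFree_rs {T : Subgroup K} {X : Submodule (ZMod 2) V} (h : OffFree ρ (T.map K.subtype) X) :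
    OffFree (rs ρ K) T X := by
  intro D hD hcomm hcard
  have h' := h (D.map K.subtype) (Subgroup.map_mono hD)
    (by rintro _ ⟨a, ha, rfl⟩ _ ⟨b, hb, rfl⟩; exact hcomm a ha b hb) ?_
  · exact fun g hg => h' ⟨g, hg, rfl⟩
  have e : (D.map K.subtype ⊓ cent ρ X : Subgroup H) = (D ⊓ cent (rs ρ K) X).map K.subtype := by
    ext g
    constructor
    · rintro ⟨⟨d, hd, rfl⟩, hc⟩; exact ⟨d, ⟨hd, hc⟩, rfl⟩
    · rintro ⟨d, ⟨hd, hc⟩, rfl⟩; exact ⟨⟨d, hd, rfl⟩, hc⟩
  rwa [e, Subgroup.card_map_of_injective K.subtype_injective, Subgroup.card_map_of_injective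
    K.subtype_injective, ← fixS_rs]

/-! ### the faithful quotient -/

section quotient

variable {G : Type u} [Group G] [Finite G] {U : Type u} [AddCommGroup U] [Module (ZMod 2) U] [Finite U]
  (σ : Representation (ZMod 2) G U)

/-- the faithful quotient -/
noncomputable def qRep : Representation (ZMod 2) (G ⧸ MonoidHom.ker σ) U :=
  QuotientGroup.lift (MonoidHom.ker σ) (σ : G →* U →ₗ[ZMod 2] U) le_rfl

theorem qRep_mk (g : G) (v : U) : qRep σ (QuotientGroup.mk g) v = σ g v := rfl

theorem qRep_mk' (g : G) (v : U) : qRep σ (QuotientGroup.mk' (MonoidHom.ker σ) g) v = σ g v := rfl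

theorem qRep_injective : Function.Injective (qRep σ) := fun a b h => by
  induction a using QuotientGroup.induction_on with | _ a =>
  induction b using QuotientGroup.induction_on with | _ b =>
  refine QuotientGroup.eq.mpr (MonoidHom.mem_ker.mpr ?_)
  rw [map_mul, ← show σ a = σ b from h, ← map_mul, inv_mul_cancel, map_one]

theorem mem_ker_iff {g : G} : g ∈ MonoidHom.ker σ ↔ ∀ v, σ g v = v :=
  ⟨fun h v => by rw [MonoidHom.mem_ker.mp h]; rfl, fun h => MonoidHom.mem_ker.mpr (LinearMap.ext h)⟩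

theorem fixS_qRep (D : Subgroup G) :
    fixS (qRep σ) (D.map (QuotientGroup.mk' (MonoidHom.ker σ))) = fixS σ D := by
  ext v
  constructor
  · intro h g hg; exact h _ ⟨g, hg, rfl⟩
  · rintro h _ ⟨g, hg, rfl⟩; exact h g hg

theorem card_le_of_equiv_fix {U' : Type u} [AddCommGroup U'] [Module (ZMod 2) U'] [Finite U']
    (W : Submodule (ZMod 2) U) (W' : Submodule (ZMod 2) U') (f : U →ₗ[ZMod 2] U') (hf : Function.Injective f)
    (h : ∀ w ∈ W, f w ∈ W') : Nat.card W ≤ Nat.card W' :=
  Nat.card_le_card_of_injective (fun w : W => (⟨f w, h w w.2⟩ : W'))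
    fun _ _ e => Subtype.ext (hf (congrArg Subtype.val e))

end quotient

/-- action of a subgroup on an invariant subspace -/
def resRep (K : Subgroup H) (X : Submodule (ZMod 2) V) (h : K ≤ stab ρ X) : Representation (ZMod 2) K X where
  toFun g := (ρ (g : H)).restrict (fun w hw => h g.2 w hw)
  map_one' := LinearMap.ext fun w => Subtype.ext (rho_one ρ _)
  map_mul' a b := LinearMap.ext fun w => Subtype.ext (rho_mul ρ _ _ _)

theorem resRep_apply {X : Submodule (ZMod 2) V} (h : K ≤ stab ρ X) (g : K) (v : X) :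
    ((resRep ρ K X h g v : X) : V) = ρ g v := rfl

theorem ker_resRep {X : Submodule (ZMod 2) V} (h : K ≤ stab ρ X) :
    MonoidHom.ker (resRep ρ K X h) = (cent ρ X).subgroupOf K := by
  ext g
  rw [mem_ker_iff]
  exact ⟨fun hg v hv => congrArg Subtype.val (hg ⟨v, hv⟩), fun hg v => Subtype.ext (hg v v.2)⟩

theorem offFree_of_noOff {X : Submodule (ZMod 2) V} (h : K ≤ stab ρ X) {T : Subgroup H} (hT : IsPGroup 2 T)
    (hTK : T ≤ K) (hno : ∀ D, ¬ Off (qRep (resRep ρ K X h)) D) : OffFree ρ T X := by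
  intro D hD hcomm hcard
  set σ := resRep ρ K X h
  set f := QuotientGroup.mk' (MonoidHom.ker σ)
  set D' := D.subgroupOf K
  have hDK : D ≤ K := hD.trans hTK
  by_cases hbot : D'.map f = ⊥
  · intro d hd v hv
    have hmem : (⟨d, hDK hd⟩ : K) ∈ MonoidHom.ker σ := by
      rw [← QuotientGroup.ker_mk' (MonoidHom.ker σ), MonoidHom.mem_ker, ← Subgroup.mem_bot, ← hbot]
      exact ⟨⟨d, hDK hd⟩, hd, rfl⟩
    exact congrArg Subtype.val ((mem_ker_iff σ).mp hmem ⟨v, hv⟩)
  refine absurd ⟨((hT.to_le hD).of_equiv (Subgroup.subgroupOfEquivOfLe hDK).symm).map f, ?_, hbot, ?_⟩ (hno (D'.map f))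
  · rintro _ ⟨a, ha, rfl⟩ _ ⟨b, hb, rfl⟩
    rw [← map_mul, ← map_mul]
    refine QuotientGroup.eq.mpr ?_
    rw [ker_resRep, Subgroup.mem_subgroupOf]
    have := hcomm _ (inv_mem hb) _ (inv_mem ha)
    simpa [mul_assoc] using this
  · have h1 := card_map_mul_card_inf_ker f D'
    rw [QuotientGroup.ker_mk'] at h1
    have h2 : Nat.card (D' ⊓ MonoidHom.ker σ : Subgroup K) = Nat.card (D ⊓ cent ρ X : Subgroup H) := by
      rw [← Subgroup.card_map_of_injective K.subtype_injective]
      refine congrArg (fun S : Subgroup H => Nat.card S) ?_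
      ext g
      constructor
      · rintro ⟨d, ⟨hd, hc⟩, rfl⟩
        exact ⟨hd, (ker_resRep ρ h ▸ hc : d ∈ (cent ρ X).subgroupOf K)⟩
      · rintro ⟨hd, hc⟩
        exact ⟨⟨g, hDK hd⟩, ⟨hd, ker_resRep ρ h ▸ hc⟩, rfl⟩
    have h3 : Nat.card D' = Nat.card D := Nat.card_congr (Subgroup.subgroupOfEquivOfLe hDK).toEquiv
    have h4 : Nat.card (X ⊓ fixS ρ D : Submodule (ZMod 2) V) ≤ Nat.card (fixS (qRep σ) (D'.map f)) := by
      rw [fixS_qRep]
      exact Nat.card_le_card_of_injective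
        (fun v => (⟨⟨v.1, v.2.1⟩, fun g hg => Subtype.ext (v.2.2 g hg)⟩ : fixS σ D'))
        fun a b e => Subtype.ext (congrArg (fun z : fixS σ D' => ((z : X) : V)) e)
    have h5 : Nat.card X * Nat.card (D ⊓ cent ρ X : Subgroup H) ≤
        Nat.card (D'.map f) * Nat.card (fixS (qRep σ) (D'.map f)) * Nat.card (D ⊓ cent ρ X : Subgroup H) := by
      refine hcard.trans ?_
      rw [← h3, ← h1, h2, mul_right_comm]
      exact Nat.mul_le_mul_right _ (Nat.mul_le_mul_left _ h4)
    exact Nat.le_of_mul_le_mul_right h5 Nat.card_pos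

/-- an irreducible invariant subspace has no normal `2`-subgroup acting nontrivially -/
theorem o2Triv_of_minimal {X : Submodule (ZMod 2) V} (h : K ≤ stab ρ X) (hX : X ≠ ⊥)
    (hmin : ∀ Y : Submodule (ZMod 2) V, Y ≤ X → K ≤ stab ρ Y → Y ≠ ⊥ → Y = X) :
    O2Triv (K ⧸ MonoidHom.ker (resRep ρ K X h)) := by
  intro R hR hRp
  set σ := qRep (resRep ρ K X h)
  have htop : (⊤ : Submodule (ZMod 2) X) ≠ ⊥ := by
    intro e
    refine hX ((Submodule.eq_bot_iff _).mpr fun v hv => ?_)
    exact congrArg Subtype.val ((Submodule.mem_bot _).mp (e ▸ mem_top : (⟨v, hv⟩ : X) ∈ ⊥))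
  obtain ⟨v, -, hv0, hv⟩ := exists_fixed σ hRp (Y := ⊤) (fun g _ w _ => mem_top) htop
  have hinv : ∀ g, ∀ w ∈ fixS σ R, σ g w ∈ fixS σ R := fun g w hw =>
    le_stab_fixS σ R (by rw [Subgroup.normalizer_eq_top_iff.mpr hR]; trivial) w hw
  have hY : (fixS σ R).map X.subtype = X := by
    refine hmin _ (map_subtype_le X _) ?_ ?_
    · rintro g hg _ ⟨w, hw, rfl⟩
      exact ⟨_, hinv (QuotientGroup.mk ⟨g, hg⟩) w hw, rfl⟩
    · intro e
      exact hv0 (Subtype.ext ((Submodule.mem_bot _).mp (e ▸ ⟨v, hv, rfl⟩ : (v : V) ∈ (⊥ : Submodule (ZMod 2) V))))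
  refine (Subgroup.eq_bot_iff_forall R).mpr fun r hr => faithful_iff σ (qRep_injective _) fun w => ?_
  obtain ⟨w', hw', e⟩ := hY.ge w.2
  exact (Subtype.ext e : w' = w) ▸ hw' r hr

end Cfsg.Lib.FF
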