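import Cfsg.Agent.FF.Main
import Cfsg.Agent.SThreeFree.Factor

/-!
Constrained groups without a section `S₄` are products of the centralizer of the centre of a Sylow
`2`-subgroup and the normalizer of its elementary Thompson subgroup.
-/

set_option autoImplicit false
set_option linter.unusedSectionVars false
set_option linter.style.haveILetI false

namespace Cfsg.Lib.FF

open Subgroup
open Cfsg.Lib.SThreeFree (conjEnd conjEnd_val conjEnd_fix_iff ker_conjEnd centralizer_normal
  odd_centralizes exists_sylow_inf frattini_inf)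
open Cfsg.Lib.Thompson (IsMaxElem)
open Cfsg.Lib.JComp (elem_sq cj conj_mem)
open scoped IsMulCommutative

universe u

variable {G : Type u} [Group G] [Finite G]

theorem card_inf_centralizer_le (U A : Subgroup G) [U.Normal] [IsMulCommutative U] [Module (ZMod 2) (Additive U)]
    (σ : Representation (ZMod 2) G (Additive U))
    (hσ : ∀ g m, σ g m = conjEnd U g m) :
    Nat.card ↥(U ⊓ centralizer (A : Set G)) ≤ Nat.card (fixS σ A) := by
  refine Nat.card_le_card_of_injective (fun x => (⟨Additive.ofMul (⟨x.1, (mem_inf.1 x.2).1⟩ : U), fun a ha => ?_⟩ : fixS σ A))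
    fun x y e => Subtype.ext ?_
  · rw [hσ]
    exact (conjEnd_fix_iff U a _).2 (mem_centralizer_iff.1 (mem_inf.1 x.2).2 a ha)
  · exact congrArg (fun z : fixS σ A => ((Additive.toMul (z : Additive U) : U) : G)) e

/-- the normal subgroup centralizing the centre contains the Thompson subgroup -/
theorem exists_normal_thompson (hchar : centralizer (Cfsg.pCore 2 G : Set G) ≤ Cfsg.pCore 2 G)
    (hfree : ¬ Cfsg.Involves (Equiv.Perm (Fin 4)) G) (S : Sylow 2 G) :
    ∃ C : Subgroup G, C.Normal ∧ C ≤ centralizer (((S : Subgroup G) ⊓ centralizer ((S : Subgroup G) : Set G) :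
        Subgroup G) : Set G) ∧ ∀ A, IsMaxElem 2 (S : Subgroup G) A → A ≤ C := by
  haveI : Fact (Nat.Prime 2) := ⟨Nat.prime_two⟩
  set Q := Cfsg.pCore 2 G
  haveI : Q.Normal := Cfsg.Lib.Components.pCore_normal' 2
  have hQS := Cfsg.Lib.FF.core_le_sylow S
  set ZS := (S : Subgroup G) ⊓ centralizer ((S : Subgroup G) : Set G)
  have hZQ : ZS ≤ Q := fun z hz => hchar (centralizer_le hQS (mem_inf.1 hz).2)
  set V := Subgroup.normalClosure (ZS : Set G)
  have hVQ : V ≤ Q := normalClosure_le_normal hZQ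
  haveI := centralizer_normal Q
  have hVc : V ≤ centralizer (Q : Set G) :=
    normalClosure_le_normal fun z hz => centralizer_le hQS (mem_inf.1 hz).2
  haveI hVcomm : IsMulCommutative V :=
    .of_comm fun a b => Subtype.ext (mem_centralizer_iff.1 (hVc b.2) a (hVQ a.2))
  have hV2 : IsPGroup 2 V := (Cfsg.Lib.Components.isPGroup_pCore 2).to_le hVQ
  haveI := centralizer_normal V
  refine ⟨centralizer (V : Set G), inferInstance, centralizer_le subset_normalClosure, ?_⟩
  set U : Subgroup G := Cfsg.omegaOne 2 V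
  have hUV : U ≤ V := (closure_le _).2 fun x hx => hx.1
  haveI hUn : U.Normal := ⟨fun n hn g => by
    refine (closure_le (K := U.comap (MulAut.conj g).toMonoidHom)).2 ?_ hn
    rintro x ⟨hx, hx2⟩
    exact subset_closure ⟨(inferInstance : V.Normal).conj_mem x hx g, by
      show (g * x * g⁻¹) ^ 2 = 1
      rw [conj_pow, hx2, mul_one, mul_inv_cancel]⟩⟩
  have hUe : Cfsg.IsElementaryAbelian 2 U := Cfsg.Lib.JComp.elem_of_sq fun z hz => by
    induction hz using Subgroup.closure_induction with
    | mem x hx => rw [← pow_two]; exact hx.2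
    | one => exact one_mul 1
    | mul x y hx hy ihx ihy =>
      have hcm : Commute x y := congrArg Subtype.val (hVcomm.is_comm.comm (⟨x, hUV hx⟩ : V) ⟨y, hUV hy⟩)
      rw [← pow_two, hcm.mul_pow, pow_two, pow_two, ihx, ihy, one_mul]
    | inv x _ ih => rw [← mul_inv_rev, ih, inv_one]
  haveI := hUe.1
  haveI := centralizer_normal U
  set D := (Cfsg.pCore 2 (G ⧸ centralizer (V : Set G))).comap (QuotientGroup.mk' (centralizer (V : Set G)))
  haveI : (Cfsg.pCore 2 (G ⧸ centralizer (V : Set G))).Normal := Cfsg.Lib.Components.pCore_normal' 2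
  haveI : D.Normal := Subgroup.Normal.comap inferInstance _
  have hDV : D ≤ centralizer (V : Set G) := by
    have hle : D ≤ centralizer (V : Set G) ⊔ ((S : Subgroup G) ⊓ D) := by
      intro d hd
      obtain ⟨P, hP⟩ := exists_sylow_inf S (N := D) (H := D) le_rfl (Or.inr rfl)
      have h2 : IsPGroup 2 (D ⧸ (centralizer (V : Set G)).subgroupOf D) := by
        intro q
        obtain ⟨⟨x, hx⟩, rfl⟩ := QuotientGroup.mk'_surjective _ q
        obtain ⟨s, hs⟩ := Cfsg.Lib.Components.isPGroup_pCore (G := G ⧸ centralizer (V : Set G)) 2 ⟨_, hx⟩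
        refine ⟨s, ?_⟩
        rw [← map_pow]
        exact (QuotientGroup.eq_one_iff _).2 (mem_subgroupOf.2 ((QuotientGroup.eq_one_iff _).1
          (congrArg Subtype.val hs)))
      obtain ⟨i, hi⟩ := IsPGroup.iff_card.1 h2
      rw [← Subgroup.index_eq_card] at hi
      obtain ⟨k, hk, t, ht, e⟩ := mem_sup_of_normal_left.1
        ((Cfsg.Lib.Transfer.sup_sylow_eq_top hi P).ge (mem_top (⟨d, hd⟩ : D)))
      rw [show d = (k : G) * t from (congrArg Subtype.val e).symm]
      exact mul_mem (mem_sup_left (mem_subgroupOf.1 hk)) (mem_sup_right (hP.le (mem_map_of_mem D.subtype ht)))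
    have hDc : D ≤ centralizer (ZS : Set G) := hle.trans (sup_le (centralizer_le subset_normalClosure)
      fun x hx => mem_centralizer_iff.2 fun z hz => (mem_centralizer_iff.1 (mem_inf.1 hz).2 x (mem_inf.1 hx).1).symm)
    haveI := centralizer_normal D
    exact le_centralizer_iff.1 (normalClosure_le_normal (le_centralizer_iff.1 hDc))
  have hVU : centralizer (U : Set G) = centralizer (V : Set G) := by
    refine le_antisymm ?_ (centralizer_le hUV)
    refine (le_trans ?_ hDV : centralizer (U : Set G) ≤ centralizer (V : Set G))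
    refine map_le_iff_le_comap.1 (Cfsg.Lib.Components.le_pCore
      (hn := Subgroup.Normal.map inferInstance _ (QuotientGroup.mk'_surjective _)) ?_)
    rintro ⟨_, c, hc, rfl⟩
    obtain ⟨s, hs⟩ := Cfsg.Lib.JComp.exists_odd_pow c
    refine ⟨s, Subtype.ext ?_⟩
    show QuotientGroup.mk' (centralizer (V : Set G)) c ^ 2 ^ s = 1
    rw [← map_pow]
    exact (QuotientGroup.eq_one_iff _).2 (odd_centralizes hV2 hs fun v hv hv2 =>
      (mem_centralizer_iff.1 (pow_mem hc _) v (subset_closure ⟨hv, by rw [pow_two]; exact hv2⟩)).symm)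
  letI : Module (ZMod 2) (Additive U) := AddCommGroup.zmodModule fun m => by
    rw [two_nsmul]; exact congrArg Additive.ofMul (Subtype.ext (elem_sq hUe (Additive.toMul m : U).2))
  let σ : Representation (ZMod 2) G (Additive U) :=
    { toFun := fun g => (conjEnd U g).toZModLinearMap 2
      map_one' := LinearMap.ext fun m => by
        show conjEnd U 1 m = m
        rw [map_one]; rfl
      map_mul' := fun a b => LinearMap.ext fun m => by
        show conjEnd U (a * b) m = conjEnd U a (conjEnd U b m)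
        rw [map_mul]; rfl }
  have hσ : ∀ g m, σ g m = conjEnd U g m := fun g m => rfl
  have hk : MonoidHom.ker σ = centralizer (U : Set G) := by
    rw [← ker_conjEnd U]
    ext g
    rw [mem_ker_iff, MonoidHom.mem_ker]
    exact ⟨fun h => AddMonoidHom.ext h, fun h m => by rw [hσ, h]; rfl⟩
  have hS3 : S3Free (G ⧸ MonoidHom.ker σ) := fun hi =>
    Cfsg.Lib.SThreeFree.not_involves_quotient_centralizer hfree U (hV2.to_le hUV)
      (Cfsg.Lib.QuadPair.involves_of_surjective
        (f := (QuotientGroup.quotientMulEquivOfEq hk.symm).toMonoidHom) (MulEquiv.surjective _) hi)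
  have hO : O2Triv (G ⧸ MonoidHom.ker σ) := by
    intro R hR hR2
    set e := QuotientGroup.quotientMulEquivOfEq (hk.trans hVU)
    have h1 : R.map e.toMonoidHom ≤ Cfsg.pCore 2 (G ⧸ centralizer (V : Set G)) :=
      Cfsg.Lib.Components.le_pCore (hn := hR.map _ e.surjective) (hR2.map _)
    refine (Subgroup.eq_bot_iff_forall R).2 fun q hq => ?_
    obtain ⟨g, rfl⟩ := QuotientGroup.mk'_surjective _ q
    refine (QuotientGroup.eq_one_iff g).2 ?_
    rw [hk, hVU]
    exact hDV (h1 ⟨_, hq, rfl⟩)
  intro A hA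
  rw [← hVU, ← hk]
  by_contra hne
  set π := QuotientGroup.mk' (MonoidHom.ker σ)
  refine no_offender (qRep_injective σ) hS3 hO (A.map π) ⟨?_, ?_, ?_, ?_⟩
  · exact (Cfsg.Lib.ThompsonFactor.isPGroup_of_elementary hA.2.1).map π
  · rintro _ ⟨a, ha, rfl⟩ _ ⟨b, hb, rfl⟩
    rw [← map_mul, ← map_mul]
    exact congrArg π (congrArg Subtype.val (hA.2.1.1.is_comm.comm (⟨a, ha⟩ : A) ⟨b, hb⟩))
  · rw [Ne, Subgroup.map_eq_bot_iff, QuotientGroup.ker_mk']
    exact hne
  · rw [fixS_qRep σ A]
    have h1 := Cfsg.Lib.SThreeFree.max_offender hA hUe (hUV.trans (hVQ.trans hQS))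
    have h2 := card_map_mul_card_inf_ker π A
    have e2 : A ⊓ MonoidHom.ker σ = A ⊓ centralizer (U : Set G) := by rw [hk]
    rw [QuotientGroup.ker_mk', e2] at h2
    have h3 := card_inf_centralizer_le U A σ hσ
    rw [show Nat.card (Additive U) = Nat.card U from Nat.card_congr Additive.toMul]
    refine Nat.le_of_mul_le_mul_right (c := Nat.card ↥(A ⊓ centralizer (U : Set G))) ?_ Nat.card_pos
    rw [mul_right_comm, h2]
    exact h1.trans (Nat.mul_le_mul_left _ h3)

/-- **product** -/
theorem center_thompson_product (hchar : centralizer (Cfsg.pCore 2 G : Set G) ≤ Cfsg.pCore 2 G)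
    (hfree : ¬ Cfsg.Involves (Equiv.Perm (Fin 4)) G) (S : Sylow 2 G) (g : G) :
    ∃ c ∈ centralizer (((S : Subgroup G) ⊓ centralizer ((S : Subgroup G) : Set G) : Subgroup G) : Set G),
      ∃ n ∈ normalizer (Cfsg.thompsonSubgroupOf 2 (S : Subgroup G) : Set G), g = c * n := by
  obtain ⟨C, hCn, hCZ, hAC⟩ := exists_normal_thompson hchar hfree S
  haveI := hCn
  set T := (S : Subgroup G) ⊓ C
  have hnorm : normalizer (T : Set G) ≤ normalizer (Cfsg.thompsonSubgroupOf 2 (S : Subgroup G) : Set G) := by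
    intro n hn
    refine Cfsg.Lib.JComp.mem_normalizer_of_cj_le ?_
    rw [Cfsg.Lib.Thompson.thompsonSubgroupOf_eq, cj, (gc_map_comap _).l_sSup]
    refine iSup₂_le fun A hA => le_sSup ⟨?_, Cfsg.Lib.SThreeFree.elem_map _ hA.2.1,
      fun B hB hBe => (hA.2.2 B hB hBe).trans (Cfsg.Lib.JComp.card_cj n A).ge⟩
    rintro _ ⟨a, ha, rfl⟩
    exact (conj_mem hn (show a ∈ T from ⟨hA.1 ha, hAC A hA ha⟩) : _).1
  obtain ⟨n, hn, c, hc, e⟩ := frattini_inf S C g⁻¹
  exact ⟨c⁻¹, inv_mem (hCZ hc), n⁻¹, inv_mem (hnorm hn), by rw [← mul_inv_rev, ← e, inv_inv]⟩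

end Cfsg.Lib.FF
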