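import Cfsg.Agent.Fusion.Qd
import Cfsg.Agent.Components.Functor.Fusion

/-!
No family of characteristic functors controls fusion in `Qd(p)`.
-/

set_option autoImplicit false
set_option linter.unusedSectionVars false
set_option linter.style.haveILetI false

namespace Cfsg.Lib.FF.QdControl

open Cfsg Matrix
open Cfsg.Lib.Fusion (aff aff_mul aff_inj aff_one exists_eq_aff)
open Cfsg.Lib.Functor (CtrlAll ind)

universe u

local notation "↥₂" M => ((M :) : Matrix (Fin 2) (Fin 2) (ZMod _))

variable {p : ℕ} [Fact p.Prime]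

/-- the affine group, in any universe -/
abbrev X (p : ℕ) : Type u := ULift.{u} (Cfsg.qd p)

/-- the quarter turn -/
def weyl : SpecialLinearGroup (Fin 2) (ZMod p) := ⟨!![0, -1; 1, 0], by simp [det_fin_two]⟩

/-- the element with given linear part and translation -/
def mk (M : SpecialLinearGroup (Fin 2) (ZMod p)) (v : Fin 2 → ZMod p) : X.{u} p := ⟨aff M v⟩

theorem mk_mul (M N : SpecialLinearGroup (Fin 2) (ZMod p)) (v w : Fin 2 → ZMod p) :
    (mk M v : X.{u} p) * mk N w = mk (M * N) ((↥₂M) *ᵥ w + v) :=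
  ULift.ext _ _ (aff_mul M N v w)

theorem exists_eq_mk (x : X.{u} p) : ∃ M v, x = mk M v := by
  obtain ⟨M, v, h⟩ := exists_eq_aff x.down
  exact ⟨M, v, ULift.ext _ _ h⟩

/-- the linear part -/
noncomputable def linPart (x : X.{u} p) : SpecialLinearGroup (Fin 2) (ZMod p) := (exists_eq_mk x).choose

theorem linPart_mk (M : SpecialLinearGroup (Fin 2) (ZMod p)) (v : Fin 2 → ZMod p) :
    linPart (mk M v : X.{u} p) = M := by
  obtain ⟨w, hw⟩ := (exists_eq_mk (mk M v : X.{u} p)).choose_spec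
  exact (aff_inj (congrArg ULift.down hw)).1.symm

/-- the linear part as a homomorphism -/
noncomputable def linHom : X.{u} p →* SpecialLinearGroup (Fin 2) (ZMod p) :=
  MonoidHom.mk' linPart fun x y => by
    obtain ⟨M, v, rfl⟩ := exists_eq_mk x
    obtain ⟨N, w, rfl⟩ := exists_eq_mk y
    rw [mk_mul, linPart_mk, linPart_mk, linPart_mk]

theorem linHom_mk (M : SpecialLinearGroup (Fin 2) (ZMod p)) (v : Fin 2 → ZMod p) :
    linHom (mk M v : X.{u} p) = M := linPart_mk M v

/-- upper unitriangular matrices -/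
def uni (a : ZMod p) : SpecialLinearGroup (Fin 2) (ZMod p) := ⟨!![1, a; 0, 1], by simp [det_fin_two]⟩

theorem uni_mul (a b : ZMod p) : uni a * uni b = uni (a + b) := by
  refine Subtype.ext ?_
  show !![1, a; 0, 1] * !![1, b; 0, 1] = !![1, a + b; 0, 1]
  ext i j
  fin_cases i <;> fin_cases j <;> simp [Matrix.mul_apply, Fin.sum_univ_two, add_comm]

theorem uni_zero : uni (0 : ZMod p) = 1 := by
  refine Subtype.ext ?_
  show !![1, 0; 0, 1] = (1 : Matrix (Fin 2) (Fin 2) (ZMod p))
  ext i j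
  fin_cases i <;> fin_cases j <;> simp

/-- the unitriangular element -/
def el (a b c : ZMod p) : X.{u} p := mk (uni a) ![c, b]

theorem el_mul (a b c a' b' c' : ZMod p) :
    (el a b c : X.{u} p) * el a' b' c' = el (a + a') (b + b') (c + c' + a * b') := by
  rw [el, el, el, mk_mul, uni_mul]
  congr 1
  funext i
  fin_cases i
  · simp [uni, Matrix.mulVec, dotProduct, Fin.sum_univ_two]; ring
  · simp [uni, Matrix.mulVec, dotProduct, Fin.sum_univ_two, add_comm]

theorem el_zero : (el 0 0 0 : X.{u} p) = 1 := by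
  refine ULift.ext _ _ ?_
  show aff (uni 0) ![0, 0] = 1
  rw [uni_zero, show (![0, 0] : Fin 2 → ZMod p) = 0 from funext fun i => by fin_cases i <;> rfl]
  exact aff_one

theorem el_inj {a b c a' b' c' : ZMod p} (h : (el a b c : X.{u} p) = el a' b' c') :
    a = a' ∧ b = b' ∧ c = c' := by
  obtain ⟨h1, h2⟩ := aff_inj (congrArg ULift.down h)
  refine ⟨?_, congrFun h2 1, congrFun h2 0⟩
  simpa [uni] using congrFun (congrFun (congrArg Subtype.val h1) 0) 1

theorem el_inv (a b c : ZMod p) : (el a b c : X.{u} p)⁻¹ = el (-a) (-b) (a * b - c) := by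
  refine inv_eq_of_mul_eq_one_right ?_
  rw [el_mul, ← el_zero]
  congr 1 <;> ring

/-- the unitriangular subgroup -/
def T (p : ℕ) [Fact p.Prime] : Subgroup (X.{u} p) where
  carrier := {x | ∃ a b c, x = el a b c}
  one_mem' := ⟨0, 0, 0, el_zero.symm⟩
  mul_mem' := by
    rintro _ _ ⟨a, b, c, rfl⟩ ⟨a', b', c', rfl⟩
    exact ⟨_, _, _, el_mul a b c a' b' c'⟩
  inv_mem' := by
    rintro _ ⟨a, b, c, rfl⟩
    exact ⟨_, _, _, el_inv a b c⟩

theorem el_mem (a b c : ZMod p) : (el a b c : X.{u} p) ∈ T p := ⟨a, b, c, rfl⟩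

/-- coordinates -/
noncomputable def coord : ZMod p × ZMod p × ZMod p ≃ T.{u} p :=
  Equiv.ofBijective (fun q => ⟨el q.1 q.2.1 q.2.2, el_mem _ _ _⟩)
    ⟨fun q r h => by
      obtain ⟨h1, h2, h3⟩ := el_inj (congrArg Subtype.val h)
      exact Prod.ext h1 (Prod.ext h2 h3),
    fun ⟨x, a, b, c, hx⟩ => ⟨(a, b, c), Subtype.ext hx.symm⟩⟩

theorem card_T : Nat.card (T.{u} p) = p ^ 3 := by
  rw [← Nat.card_congr coord.{u}, Nat.card_prod, Nat.card_prod, Nat.card_zmod]; ring

theorem isPGroup_T : IsPGroup p (T.{u} p) := IsPGroup.of_card card_T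

/-- first column -/
def col (M : SpecialLinearGroup (Fin 2) (ZMod p)) : Fin 2 → ZMod p := ![M.1 0 0, M.1 1 0]

theorem col_mul (M N : SpecialLinearGroup (Fin 2) (ZMod p)) : col (M * N) = (↥₂M) *ᵥ col N := by
  funext i
  fin_cases i <;>
    simp [col, Matrix.mulVec, dotProduct, Fin.sum_univ_two, Matrix.mul_apply]

theorem mem_T_iff (x : X.{u} p) : x ∈ T p ↔ col (linHom x) = ![1, 0] := by
  constructor
  · rintro ⟨a, b, c, rfl⟩
    rw [el, linHom_mk]
    funext i
    fin_cases i <;> simp [col, uni]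
  · intro h
    obtain ⟨M, v, rfl⟩ := exists_eq_mk x
    rw [linHom_mk] at h
    have h0 : M.1 0 0 = 1 := congrFun h 0
    have h1 : M.1 1 0 = 0 := congrFun h 1
    have hd := M.2
    rw [det_fin_two, h0, h1, one_mul, mul_zero, sub_zero] at hd
    refine ⟨M.1 0 1, v 1, v 0, ?_⟩
    rw [el]
    congr 1
    · refine Subtype.ext ?_
      show M.1 = !![1, M.1 0 1; 0, 1]
      ext i j
      fin_cases i <;> fin_cases j <;> simp [h0, h1, hd]
    · funext i; fin_cases i <;> rfl

theorem exists_col {v : Fin 2 → ZMod p} (hv : v ≠ 0) :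
    ∃ M : SpecialLinearGroup (Fin 2) (ZMod p), col M = v := by
  by_cases h0 : v 0 = 0
  · have h1 : v 1 ≠ 0 := fun e => hv (funext fun i => by fin_cases i <;> assumption)
    refine ⟨⟨!![v 0, -(v 1)⁻¹; v 1, 0], ?_⟩, funext fun i => by fin_cases i <;> simp [col]⟩
    rw [det_fin_two]
    simp [h0, h1]
  · refine ⟨⟨!![v 0, 0; v 1, (v 0)⁻¹], ?_⟩, funext fun i => by fin_cases i <;> simp [col]⟩
    rw [det_fin_two]
    simp [h0]

theorem col_ne_zero (M : SpecialLinearGroup (Fin 2) (ZMod p)) : col M ≠ 0 := fun h => by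
  have hd := M.2
  have h0 : M.1 0 0 = 0 := congrFun h 0
  have h1 : M.1 1 0 = 0 := congrFun h 1
  rw [det_fin_two, h0, h1] at hd
  simp at hd

theorem not_dvd_index : ¬ p ∣ (T.{u} p).index := by
  classical
  let f : X.{u} p ⧸ T p → {v : Fin 2 → ZMod p // v ≠ 0} := fun q =>
    Quotient.liftOn' q (fun x => ⟨col (linHom x), col_ne_zero _⟩) fun a b h => by
      refine Subtype.ext ?_
      rw [QuotientGroup.leftRel_apply, mem_T_iff, map_mul, col_mul] at h
      have := congrArg (fun w => (↥₂(linHom a)) *ᵥ w) h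
      simp only [← col_mul, ← mul_assoc, ← map_mul, mul_inv_cancel, one_mul] at this
      show col (linHom a) = col (linHom b)
      rw [this]
      funext i
      fin_cases i <;> simp [col, Matrix.mulVec, dotProduct, Fin.sum_univ_two]
  have hf : Function.Bijective f := by
    constructor
    · intro q r h
      induction q using QuotientGroup.induction_on with | _ a =>
      induction r using QuotientGroup.induction_on with | _ b =>
      refine QuotientGroup.eq.2 ((mem_T_iff _).2 ?_)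
      have h' : col (linHom a) = col (linHom b) := congrArg Subtype.val h
      rw [map_mul, col_mul, ← h', ← col_mul, ← map_mul, inv_mul_cancel, map_one]
      funext i
      fin_cases i <;> simp [col]
    · rintro ⟨v, hv⟩
      obtain ⟨M, hM⟩ := exists_col hv
      exact ⟨QuotientGroup.mk (mk M 0), Subtype.ext (by show col (linHom (mk M 0)) = v; rw [linHom_mk, hM])⟩
  rw [Subgroup.index_eq_card, Nat.card_eq_of_bijective f hf, Nat.card_eq_fintype_card,
    Fintype.card_subtype_compl, Fintype.card_subtype_eq, Fintype.card_fun, ZMod.card, Fintype.card_fin]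
  intro h
  have hp := (Fact.out : p.Prime)
  have h2 : p ∣ p ^ 2 := dvd_pow_self p two_ne_zero
  have h3 := Nat.dvd_sub h2 h
  rw [Nat.sub_sub_self (Nat.one_le_pow _ _ hp.pos)] at h3
  exact hp.ne_one (Nat.dvd_one.1 h3)

/-- the automorphism exchanging the two maximal elementary subgroups -/
noncomputable def flip : T.{u} p ≃* T.{u} p where
  toEquiv := coord.{u}.symm.trans
    (((Equiv.mk (fun q : ZMod p × ZMod p × ZMod p => (q.2.1, q.1, q.1 * q.2.1 - q.2.2))
      (fun q => (q.2.1, q.1, q.1 * q.2.1 - q.2.2))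
      (fun q => by ext <;> simp; ring) (fun q => by ext <;> simp; ring))).trans coord.{u})
  map_mul' x y := by
    obtain ⟨⟨a, b, c⟩, rfl⟩ := coord.surjective x
    obtain ⟨⟨a', b', c'⟩, rfl⟩ := coord.surjective y
    have h : coord.{u} (a, b, c) * coord.{u} (a', b', c') = coord.{u} (a + a', b + b', c + c' + a * b') :=
      Subtype.ext (el_mul a b c a' b' c')
    simp only [Equiv.toFun_as_coe, Equiv.trans_apply, h, Equiv.symm_apply_apply, Equiv.coe_fn_mk]
    refine Subtype.ext ?_
    show el _ _ _ = el _ _ _ * el _ _ _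
    rw [el_mul]
    congr 1
    ring

theorem flip_el (a b c : ZMod p) :
    ((flip ⟨el a b c, el_mem a b c⟩ : T.{u} p) : X.{u} p) = el b a (a * b - c) := by
  show ((coord.{u} _ : T.{u} p) : X.{u} p) = _
  rw [show (⟨el a b c, el_mem a b c⟩ : T.{u} p) = coord.{u} (a, b, c) from rfl, Equiv.symm_apply_apply]
  rfl

/-- the stabilizer of the line -/
theorem normalizer_induced_le {W : ∀ (Q : Type u) [Group Q], Subgroup Q} (hW : Cfsg.IsCharPFunctor.{u} p W)
    {x : X.{u} p} (hx : x ∈ Subgroup.normalizer ((Cfsg.inducedFunctor W (T p) : Subgroup (X.{u} p)) : Set (X.{u} p))) :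
    col (linHom x) 1 = 0 := by
  classical
  by_contra hM
  set P := Cfsg.inducedFunctor W (T.{u} p) with hP
  haveI : Nontrivial (T.{u} p) := Finite.one_lt_card_iff_nontrivial.1 (by
    rw [card_T]; exact Nat.one_lt_pow (by norm_num) (Fact.out : p.Prime).one_lt)
  have hPne : P ≠ ⊥ := Cfsg.Lib.Functor.induced_ne_bot hW isPGroup_T
    ((Subgroup.nontrivial_iff_ne_bot _).1 inferInstance)
  have hPT : P ≤ T p := Subgroup.map_subtype_le _
  have hTP : T p ≤ Subgroup.normalizer (P : Set (X.{u} p)) := by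
    intro t ht
    refine Subgroup.mem_normalizer_iff.2 fun y => ?_
    have key : ∀ s ∈ T p, ∀ y ∈ P, s * y * s⁻¹ ∈ P := by
      rintro s hs _ ⟨z, hz, rfl⟩
      have h1 := hW.2 (T p) (T p) isPGroup_T (MulAut.conj ⟨s, hs⟩)
      refine ⟨MulAut.conj (⟨s, hs⟩ : T p) z, h1.le ⟨z, hz, rfl⟩, rfl⟩
    refine ⟨key t ht y, fun h => ?_⟩
    have := key t⁻¹ (inv_mem ht) _ h
    simpa [mul_assoc] using this
  -- linear parts are trivial
  have hlin : ∀ y ∈ P, linHom y = 1 := by
    intro y hy
    have h1 := (mem_T_iff y).1 (hPT hy)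
    have h2 := (mem_T_iff _).1 (hPT ((Subgroup.mem_normalizer_iff.1 (inv_mem hx) y).1 hy))
    rw [inv_inv, map_mul, map_mul, col_mul] at h2
    have e : (![1, 0] : Fin 2 → ZMod p) = col 1 := funext fun i => by fin_cases i <;> simp [col]
    have h3 := congrArg (fun w => (↥₂(linHom x)) *ᵥ w) h2
    simp only [e, ← col_mul, ← mul_assoc, ← map_mul, mul_inv_cancel, one_mul, mul_one] at h3
    rw [map_mul, col_mul] at h3
    obtain ⟨a, b, c, rfl⟩ := hPT hy
    rw [el, linHom_mk] at h3 ⊢
    have h4 := congrFun h3 0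
    simp [uni, Matrix.mulVec, dotProduct, Fin.sum_univ_two] at h4
    have h5 : a * col (linHom x) 1 = 0 := by
      have e2 : col (linHom x) 0 + a * col (linHom x) 1 = col (linHom x) 0 := by simpa using h4
      exact add_eq_left.1 e2
    rw [(mul_eq_zero.1 h5).resolve_right hM, uni_zero]
  have hlin' : ∀ y ∈ P, ∃ b c, y = el 0 b c := by
    intro y hy
    obtain ⟨a, b, c, rfl⟩ := hPT hy
    have := hlin _ hy
    rw [el, linHom_mk] at this
    have e : a = 0 := by simpa [uni] using congrFun (congrFun (congrArg Subtype.val this) 0) 1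
    exact ⟨b, c, by rw [e]⟩
  -- the line
  obtain ⟨d, hd0, hd⟩ : ∃ d : ZMod p, d ≠ 0 ∧ el 0 0 d ∈ P := by
    haveI : Nontrivial P := (Subgroup.nontrivial_iff_ne_bot P).2 hPne
    obtain ⟨⟨y, hy⟩, hy1⟩ := exists_ne (1 : P)
    obtain ⟨b, c, rfl⟩ := hlin' y hy
    by_cases hb : b = 0
    · subst hb
      refine ⟨c, fun e => hy1 (Subtype.ext ?_), hy⟩
      show el 0 0 c = 1
      rw [e, el_zero]
    · refine ⟨b, hb, ?_⟩
      have h1 := mul_mem ((Subgroup.mem_normalizer_iff.1 (hTP (el_mem 1 0 0)) _).1 hy) (inv_mem hy)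
      rw [el_inv, el_inv, el_mul, el_mul, el_mul] at h1
      convert h1 using 2 <;> ring
  -- everything
  have hall : ∀ b c : ZMod p, el 0 b c ∈ P := by
    have hline : ∀ c : ZMod p, el 0 0 c ∈ P := by
      intro c
      have hpow : ∀ n : ℕ, (el 0 0 d : X.{u} p) ^ n = el 0 0 ((n : ZMod p) * d) := by
        intro n
        induction n with
        | zero => rw [pow_zero, ← el_zero]; simp
        | succ n ih =>
          rw [pow_succ, ih, el_mul]
          congr 1 <;> simp [add_mul]
      obtain ⟨n, hn⟩ := ZMod.natCast_zmod_surjective (c * d⁻¹)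
      have h1 : (el 0 0 d : X.{u} p) ^ n ∈ P := pow_mem hd n
      rwa [hpow, hn, mul_assoc, inv_mul_cancel₀ hd0, mul_one] at h1
    intro b c
    obtain ⟨M, v, rfl⟩ := exists_eq_mk x
    rw [linHom_mk] at hM
    have hM' : M.1 1 0 ≠ 0 := hM
    set t := b * (M.1 1 0)⁻¹
    have h1 := (Subgroup.mem_normalizer_iff.1 hx _).1 (hline t)
    have e : (mk M v : X.{u} p) * el 0 0 t * (mk M v)⁻¹ = el 0 b (M.1 0 0 * t) := by
      rw [mul_inv_eq_iff_eq_mul, el, el, mk_mul, mk_mul, uni_zero, mul_one, one_mul]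
      congr 1
      funext i
      fin_cases i
      · simp [Matrix.mulVec, dotProduct, Fin.sum_univ_two]; ring
      · simp [Matrix.mulVec, dotProduct, Fin.sum_univ_two, t]
        field_simp
        ring
    rw [e] at h1
    have h2 := mul_mem h1 (hline (c - M.1 0 0 * t))
    rw [el_mul] at h2
    convert h2 using 2 <;> ring
  -- but it is characteristic in `T`
  have h1 := hW.2 (T p) (T p) isPGroup_T flip
  obtain ⟨z, hz, hze⟩ := hall 1 0
  have hz' : z = (⟨el 0 1 0, el_mem 0 1 0⟩ : T p) := Subtype.ext hze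
  have h2 : ((flip z : T p) : X.{u} p) ∈ P := ⟨flip z, h1.le ⟨z, hz, rfl⟩, rfl⟩
  rw [hz', flip_el] at h2
  obtain ⟨b, c, e⟩ := hlin' _ h2
  exact one_ne_zero (el_inj e).1

/-- no family controls -/
theorem not_ctrlAll {𝓦 : Set (∀ (Q : Type u) [Group Q], Subgroup Q)}
    (h𝓦 : ∀ W ∈ 𝓦, Cfsg.IsCharPFunctor.{u} p W) : ¬ CtrlAll p 𝓦 (X.{u} p) := by
  classical
  intro h
  set S : Sylow p (X.{u} p) := isPGroup_T.{u}.toSylow not_dvd_index
  have hS : (S : Subgroup (X.{u} p)) = T p := rfl
  set g : X.{u} p := mk weyl 0 with hgdef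
  have hg : g * el 0 0 1 * g⁻¹ = el 0 1 0 := by
    rw [mul_inv_eq_iff_eq_mul, hgdef, el, el, mk_mul, mk_mul, uni_zero, mul_one, one_mul]
    congr 1
    funext i
    fin_cases i <;> simp [weyl, Matrix.mulVec, dotProduct, Fin.sum_univ_two]
  obtain ⟨c, hc, hcg⟩ := h S {el 0 0 1} g (by rw [hS]; exact Set.singleton_subset_iff.2 (el_mem _ _ _)) (by
    refine Cfsg.Lib.Control.img_subset_iff.2 fun a ha => ?_
    rw [Set.mem_singleton_iff.1 ha, hS, hg]
    exact el_mem _ _ _)
  let B : Subgroup (X.{u} p) :=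
    { carrier := {y | col (linHom y) 1 = 0}
      one_mem' := by
        show col (linHom 1) 1 = 0
        rw [map_one]
        simp [col]
      mul_mem' := fun {y z} hy hz => by
        show col (linHom (y * z)) 1 = 0
        change col (linHom y) 1 = 0 at hy
        change col (linHom z) 1 = 0 at hz
        simp only [col, Matrix.cons_val_one, Matrix.cons_val_fin_one] at hy hz ⊢
        rw [map_mul]
        simp [Matrix.mul_apply, Fin.sum_univ_two, hy, hz]
      inv_mem' := fun {y} hy => by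
        show col (linHom y⁻¹) 1 = 0
        change col (linHom y) 1 = 0 at hy
        simp only [col, Matrix.cons_val_one, Matrix.cons_val_fin_one] at hy ⊢
        rw [map_inv]
        simp [Matrix.SpecialLinearGroup.coe_inv, Matrix.adjugate_fin_two, hy] }
  have hcB : c ∈ B := by
    clear hcg
    induction hc with
    | one => exact one_mem _
    | mul _ hst ih =>
      refine mul_mem ?_ ih
      obtain ⟨⟨W, hW, hx⟩, -, -⟩ := hst
      obtain ⟨W₀, hW₀, rfl⟩ := hW
      exact normalizer_induced_le (h𝓦 W₀ hW₀) (hS ▸ (Subgroup.mem_inf.1 hx).2)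
  have h1 := hcg _ rfl
  rw [hg] at h1
  obtain ⟨M, v, rfl⟩ := exists_eq_mk c
  have hc1 : M.1 1 0 = 0 := by
    have : col (linHom (mk M v : X.{u} p)) 1 = 0 := hcB
    rwa [linHom_mk] at this
  rw [mul_inv_eq_iff_eq_mul, el, el, mk_mul, mk_mul] at h1
  have h2 := congrFun (aff_inj (congrArg ULift.down h1)).2 1
  simp [uni, Matrix.mulVec, dotProduct, Fin.sum_univ_two, hc1] at h2

end Cfsg.Lib.FF.QdControl
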